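import Cfsg.Agent.Lib.ClassTwoGen.OmGen

/-!
# Two generators when there is an anisotropic part

All hyperbolic pairs are cycled; the sign is corrected by a reflection in the anisotropic part.
The first generator is the product of a short root element and a commuting element of order prime
to the characteristic that mixes two pairs.
-/

set_option autoImplicit false
set_option linter.unusedSectionVars false

namespace Cfsg.Agent.ClassTwoGen

open scoped commutatorElement
open Cfsg.Agent Cfsg.Agent.TransvMax Cfsg.Agent.QMax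
open Cfsg.Agent.OrthSimple (Om sg mem_oGroup_of_mem_Om exists_map)

universe u

variable {ι : Type} [Fintype ι] [DecidableEq ι] {F : Type u} [Field F] [Finite F]
  {Q : QuadraticForm F (ι → F)} {k : ℕ}

/-- The Siegel element at `u` in direction `c w` lies in `M`. -/
def Es (M : Subgroup (Om (Q := Q))) (u w : ι → F) (c : F) : Prop :=
  ∃ g ∈ M, ∀ x, g.1 x = siegelHom Q u (c • w) x

/-- All multiples. -/
def InS (M : Subgroup (Om (Q := Q))) (u w : ι → F) : Prop := ∀ c : F, Es M u w c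

variable (S : QSetting Q)

include S

theorem Es.map {M : Subgroup (Om (Q := Q))} {u w : ι → F} {c : F} (h : Es M u w c)
    {g : Om (Q := Q)} (hg : g ∈ M) : Es M (g.1 u) (g.1 w) c := by
  obtain ⟨r, hr, e⟩ := h
  refine ⟨g * r * g⁻¹, M.mul_mem (M.mul_mem hg hr) (M.inv_mem hg), fun x => ?_⟩
  obtain ⟨y, rfl⟩ := g.1.surjective x
  show g.1 (r.1 (g.1.symm (g.1 y))) = _
  rw [LinearEquiv.symm_apply_apply, e, siegelHom_apply, siegelHom_apply, ← map_smul,
    mem_oGroup_of_mem_Om g.2 (c • w), map_sub, map_sub, map_add, map_smul g.1 _ (c • w),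
    map_smul g.1 _ u, map_smul g.1 _ u, AutPOmega.pB_oGroup S, AutPOmega.pB_oGroup S]

theorem Es.smul_left {M : Subgroup (Om (Q := Q))} {u w : ι → F} {a c : F}
    (h : Es M (a • u) w c) : Es M u w (a * c) := by
  obtain ⟨r, hr, e⟩ := h
  refine ⟨r, hr, fun x => ?_⟩
  rw [e, siegelHom_apply, siegelHom_apply]
  simp only [map_smul, S.quad_smul, smul_eq_mul]
  module

theorem Es.map_inv {M : Subgroup (Om (Q := Q))} {u w : ι → F} {c : F}
    {g : Om (Q := Q)} (hg : g ∈ M) (h : Es M (g.1 u) (g.1 w) c) : Es M u w c := by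
  have h' := Es.map S h (M.inv_mem hg)
  have e : ∀ x, (g⁻¹ : Om (Q := Q)).1 (g.1 x) = x := fun x => g.1.symm_apply_apply x
  rwa [e, e] at h'

/-- The scalars of a short root subgroup. -/
def sscal (M : Subgroup (Om (Q := Q))) (u w : ι → F) (hu : Q u = 0) (hw : pB Q w u = 0) :
    AddSubgroup F where
  carrier := {c | Es M u w c}
  zero_mem' := ⟨1, M.one_mem, fun x => by
    rw [zero_smul, S.siegelHom_zero]; rfl⟩
  add_mem' {a b} ha hb := by
    obtain ⟨g, hg, e⟩ := ha
    obtain ⟨h, hh, e'⟩ := hb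
    refine ⟨g * h, M.mul_mem hg hh, fun x => ?_⟩
    rw [om_mul_apply, e', e, S.siegelHom_siegelHom hu (by rw [map_smul, LinearMap.smul_apply, hw, smul_zero])
      (by rw [map_smul, LinearMap.smul_apply, hw, smul_zero]), add_smul]
  neg_mem' {a} ha := by
    obtain ⟨g, hg, e⟩ := ha
    refine ⟨g⁻¹, M.inv_mem hg, fun x => ?_⟩
    apply g.1.injective
    show g.1 (g.1.symm x) = _
    rw [LinearEquiv.apply_symm_apply, e, S.siegelHom_siegelHom hu
      (by rw [map_smul, LinearMap.smul_apply, hw, smul_zero])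
      (by rw [map_smul, LinearMap.smul_apply, hw, smul_zero]), ← add_smul, add_neg_cancel,
      zero_smul, S.siegelHom_zero]

variable {M : Subgroup (Om (Q := Q))}

theorem InS.toInU {u w : ι → F} (h : InS M u w) (hu : Q u = 0) (hw : pB Q w u = 0) :
    InU S M u hu w := ⟨hw, fun c => by
  obtain ⟨g, hg, e⟩ := h c
  convert hg using 1
  exact Subtype.ext (LinearEquiv.ext fun x => (e x).symm)⟩

/-- The commutator of two short root elements. -/
theorem InS.comm {a b v v' : ι → F} (ha : InS M a v) (hb : InS M b v') (hqa : Q a = 0)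
    (hqb : Q b = 0) (hab : pB Q a b = 0) (hva : pB Q v a = 0) (hvb : pB Q v b = 0)
    (hv'a : pB Q v' a = 0) (hv'b : pB Q v' b = 0) (hvv : pB Q v' v ≠ 0) : InR M b a := by
  intro c
  obtain ⟨g, hg, eg⟩ := ha 1
  obtain ⟨h, hh, eh⟩ := hb (-c / pB Q v' v)
  refine ⟨g * h * g⁻¹ * h⁻¹, M.mul_mem (M.mul_mem (M.mul_mem hg hh) (M.inv_mem hg)) (M.inv_mem hh),
    fun x => ?_⟩
  obtain ⟨y, rfl⟩ := h.1.surjective x
  show (g * h * g⁻¹).1 (h.1.symm (h.1 y)) = _
  rw [LinearEquiv.symm_apply_apply]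
  obtain ⟨z, rfl⟩ := g.1.surjective y
  show g.1 (h.1 (g.1.symm (g.1 z))) = _
  have haa : pB Q a a = 0 := by rw [S.pB_self, hqa, mul_zero]
  have hbb : pB Q b b = 0 := by rw [S.pB_self, hqb, mul_zero]
  rw [LinearEquiv.symm_apply_apply]
  simp only [eg, eh, siegelHom_apply, map_add, map_sub, map_smul, LinearMap.add_apply,
    LinearMap.sub_apply, LinearMap.smul_apply, smul_eq_mul, S.quad_smul, one_smul, one_mul, haa,
    hbb, hab, hva, hvb, hv'a, hv'b, S.pB_comm b a, S.pB_comm a v, S.pB_comm b v, S.pB_comm a v',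
    S.pB_comm b v', S.pB_comm v v', mul_zero, zero_mul, add_zero, sub_zero, zero_smul]
  match_scalars <;> field_simp <;> ring

variable (H : Hyp Q (k + 1))

/-- `e_0 ↦ e_1 ↦ … ↦ e_j ↦ ± e_0`, likewise for the `f`'s. -/
noncomputable def cycle0 : (j : ℕ) → j ≤ k → Om (Q := Q)
  | 0, _ => 1
  | j + 1, h => cycle0 j (Nat.le_of_succ_le h) *
      weyl S H (ix_ne (hi := Nat.le_of_succ_le h) (hj := h) (Nat.ne_of_lt (Nat.lt_succ_self j))) 1

theorem cycle0_spec : ∀ (j : ℕ) (hj : j ≤ k),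
    (∀ i h h', i < j →
      (cycle0 S H j hj).1 (H.e (ix i h)) = H.e (ix (i + 1) h') ∧
      (cycle0 S H j hj).1 (H.f (ix i h)) = H.f (ix (i + 1) h')) ∧
    (∀ h h', (cycle0 S H j hj).1 (H.e (ix j h)) = (-1 : F) ^ j • H.e (ix 0 h') ∧
      (cycle0 S H j hj).1 (H.f (ix j h)) = (-1 : F) ^ j • H.f (ix 0 h')) ∧
    (∀ i h, j < i → (cycle0 S H j hj).1 (H.e (ix i h)) = H.e (ix i h) ∧
      (cycle0 S H j hj).1 (H.f (ix i h)) = H.f (ix i h)) ∧
    (∀ v, H.Perp v → (cycle0 S H j hj).1 v = v) := by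
  intro j
  induction j with
  | zero =>
    intro hj
    refine ⟨fun i h h' h2 => absurd h2 (by omega), fun h h' => ?_, fun i h _ => ⟨rfl, rfl⟩,
      fun v _ => rfl⟩
    simp only [cycle0, pow_zero, one_smul]
    exact ⟨rfl, rfl⟩
  | succ j ih =>
    intro hj
    obtain ⟨hA, hB, hC, hD⟩ := ih (Nat.le_of_succ_le hj)
    have e1 : ∀ i (h : i ≤ k), i ≠ j → ix i h ≠ ix j (Nat.le_of_succ_le hj) :=
      fun i h hne => ix_ne hne
    have e2 : ∀ i (h : i ≤ k), i ≠ j + 1 → ix i h ≠ ix (j + 1) hj :=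
      fun i h hne => ix_ne hne
    refine ⟨fun i h h' h2 => ?_, fun h h' => ?_, fun i h hi => ?_, fun v hv => ?_⟩
    · rcases Nat.lt_or_ge i j with hlt | hge
      · rw [cycle0, om_mul_apply, om_mul_apply, weyl_e, weyl_f, if_neg (e1 i h (by omega)),
          if_neg (e2 i h (by omega)), if_neg (e1 i h (by omega)), if_neg (e2 i h (by omega))]
        exact hA i h h' hlt
      · obtain rfl : i = j := by omega
        rw [cycle0, om_mul_apply, om_mul_apply, weyl_e, weyl_f, if_pos rfl, if_pos rfl]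
        simp only [Units.val_one, inv_one, one_smul]
        exact hC (i + 1) h' (by omega)
    · rw [cycle0, om_mul_apply, om_mul_apply, weyl_e, weyl_f, if_neg (e1 _ h (by omega)), if_pos rfl,
        if_neg (e1 _ h (by omega)), if_pos rfl]
      simp only [Units.val_one, inv_one, neg_one_smul, map_neg]
      rw [(hB _ h').1, (hB _ h').2, pow_succ, mul_neg_one, neg_smul, neg_smul]
      exact ⟨rfl, rfl⟩
    · rw [cycle0, om_mul_apply, om_mul_apply, weyl_e, weyl_f, if_neg (e1 i h (by omega)),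
        if_neg (e2 i h (by omega)), if_neg (e1 i h (by omega)), if_neg (e2 i h (by omega))]
      exact hC i h (by omega)
    · rw [cycle0, om_mul_apply, weyl_perp S H _ _ hv, hD v hv]

omit H in
theorem refl_mul_refl_mem {v w : ι → F} (hv : Q v ≠ 0) (hw : Q w ≠ 0) (h : Q v = Q w) :
    FormsLib.refl Q v hv * FormsLib.refl Q w hw ∈ Om (Q := Q) := by
  obtain ⟨g, hg⟩ := exists_map S (x := v) (y := w)
    (fun e => hv (by rw [e, QuadraticMap.map_zero])) (fun e => hw (by rw [e, QuadraticMap.map_zero])) h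
  have hgo := mem_oGroup_of_mem_Om g.2
  have hc : g.1 * FormsLib.refl Q v hv * g.1⁻¹ = FormsLib.refl Q w hw := by
    rw [FormsLib.refl_conj Q hv hgo]
    exact FormsLib.refl_congr Q _ _ hg
  have hinv : (FormsLib.refl Q v hv)⁻¹ = FormsLib.refl Q v hv :=
    inv_eq_of_mul_eq_one_right (FormsLib.refl_mul_self Q hv)
  rw [← hc]
  have e : FormsLib.refl Q v hv * (g.1 * FormsLib.refl Q v hv * g.1⁻¹) =
      ⁅FormsLib.refl Q v hv, g.1⁆ := by
    rw [commutatorElement_def, hinv]
    group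
  rw [e]
  exact Subgroup.commutator_mem_commutator (FormsLib.oRefl Q v hv).2 hgo

/-- How the monomial generator acts when all pairs are cycled. -/
structure CycAll (H : Hyp Q (k + 1)) (N : Om (Q := Q)) : Prop where
  step : ∀ j h h', N.1 (H.e (ix j h)) = H.e (ix (j + 1) h') ∧
    N.1 (H.f (ix j h)) = H.f (ix (j + 1) h')
  last : ∀ h h', ∃ a b : F, a ≠ 0 ∧ b ≠ 0 ∧ N.1 (H.e (ix k h)) = a • H.f (ix 0 h') ∧
    N.1 (H.f (ix k h)) = b • H.e (ix 0 h')

/-- Existence of the monomial generator: it acts on the orthogonal complement as a reflection. -/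
theorem exists_cycAll {w₀ : ι → F} (h1 : Q w₀ = 1) (hp : H.Perp w₀) :
    ∃ N : Om (Q := Q), CycAll H N ∧ ∀ v, H.Perp v → N.1 v = v - pB Q v w₀ • w₀ := by
  let i0 := ix 0 (Nat.zero_le k)
  have hef : Q (H.e i0 + H.f i0) = 1 := by
    rw [S.quad_add, H.qe, H.qf, H.ef, if_pos rfl]; ring
  have hv : Q (H.e i0 + H.f i0) ≠ 0 := by rw [hef]; exact one_ne_zero
  have hw : Q w₀ ≠ 0 := by rw [h1]; exact one_ne_zero
  let D : Om (Q := Q) := ⟨_, refl_mul_refl_mem S hv hw (hef.trans h1.symm)⟩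
  have hD : ∀ x, D.1 x = (x - pB Q x w₀ • w₀) -
      pB Q (x - pB Q x w₀ • w₀) (H.e i0 + H.f i0) • (H.e i0 + H.f i0) := by
    intro x
    show FormsLib.refl Q _ hv (FormsLib.refl Q w₀ hw x) = _
    simp only [FormsLib.refl_apply, hef, h1, inv_one, one_mul, mul_one,
      QuadraticMap.polarBilin_apply_apply, div_one]
  have hew : ∀ i, pB Q (H.e i) w₀ = 0 := fun i => by rw [S.pB_comm]; exact (hp i).1
  have hfw : ∀ i, pB Q (H.f i) w₀ = 0 := fun i => by rw [S.pB_comm]; exact (hp i).2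
  have hDe : ∀ i, i ≠ i0 → D.1 (H.e i) = H.e i ∧ D.1 (H.f i) = H.f i := fun i hi => by
    constructor
    · rw [hD, hew, map_add]; simp [H.ee, H.ef, hi]
    · rw [hD, hfw, map_add]; simp [H.ff, H.fe S, hi]
  have hD0 : D.1 (H.e i0) = -H.f i0 ∧ D.1 (H.f i0) = -H.e i0 := by
    constructor
    · rw [hD, hew, map_add]; simp [H.ee, H.ef]
    · rw [hD, hfw, map_add]; simp [H.ff, H.fe S]
  obtain ⟨hA, hB, -, hC⟩ := cycle0_spec S H k le_rfl
  refine ⟨D * cycle0 S H k le_rfl, ⟨fun j h h' => ?_, fun h h' => ?_⟩, fun v hv' => ?_⟩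
  · obtain ⟨a, b⟩ := hA j h h' (by omega)
    rw [om_mul_apply, om_mul_apply, a, b]
    exact hDe _ (ix_ne (by omega))
  · obtain ⟨a, b⟩ := hB h h'
    refine ⟨-(-1 : F) ^ k, -(-1 : F) ^ k, by simp, by simp, ?_, ?_⟩
    · rw [om_mul_apply, a, map_smul, hD0.1]; module
    · rw [om_mul_apply, b, map_smul, hD0.2]; module
  · rw [om_mul_apply, hC v hv', hD]
    have e : pB Q (v - pB Q v w₀ • w₀) (H.e i0 + H.f i0) = 0 := by
      simp only [map_add, map_sub, map_smul, LinearMap.sub_apply, LinearMap.smul_apply, smul_eq_mul,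
        (hp i0).1, (hp i0).2, (hv' i0).1, (hv' i0).2]
      ring
    rw [e, zero_smul, sub_zero]

/-- The elements generate: short root groups at every point of the system, then everything. -/
theorem eq_top_of_short (hk : 2 ≤ k) {N z : Om (Q := Q)} (hN : N ∈ M) (hz : z ∈ M)
    (hact : CycAll H N) {l : Fˣ} (hl : ∀ y : Fˣ, y ∈ Subgroup.zpowers l) {w w' : ι → F}
    (hw : H.Perp w) (hw' : H.Perp w') (hNw : N.1 w = w') (hNw' : N.1 w' = w)
    (hr : Es M (H.e (ix 0 (Nat.zero_le k))) w 1)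
    (hze : z.1 (H.e (ix 1 (by omega))) = (l : F) • H.e (ix 2 hk))
    (hzw : z.1 w = w) (hzw' : z.1 w' = w')
    (hspan : ∀ v, H.Perp v → ∃ a b : F, v = a • w + b • w')
    (hnz : pB Q w w ≠ 0 ∨ pB Q w w' ≠ 0) : M = ⊤ := by
  let i0 : Fin (k + 1) := ix 0 (Nat.zero_le k)
  let i1 : Fin (k + 1) := ix 1 (by omega)
  let i2 : Fin (k + 1) := ix 2 hk
  have hN0 : N.1 (H.e i0) = H.e i1 := (hact.step 0 _ _).1
  have hN1 : N.1 (H.e i1) = H.e i2 := (hact.step 1 _ _).1
  have he1 : pB Q w' (H.e i1) = 0 := (hw' i1).1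
  let T := sscal S M (H.e i1) w' (H.qe i1) he1
  have h1 : (1 : F) ∈ T := by
    have h := Es.map S hr hN
    rwa [hN0, hNw] at h
  -- going round `e 1 → e 2 → e 1 → e 2 → e 1`
  have hround : ∀ x, Es M (H.e i1) w' x → Es M (H.e i1) w ((l : F) * x) := by
    intro x hx
    have h := Es.map S hx hz
    rw [hze, hzw'] at h
    have h' := Es.smul_left S h
    rw [← hN1, ← hNw] at h'
    exact Es.map_inv S hN h'
  have hround' : ∀ x, Es M (H.e i1) w x → Es M (H.e i1) w' ((l : F) * x) := by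
    intro x hx
    have h := Es.map S hx hz
    rw [hze, hzw] at h
    have h' := Es.smul_left S h
    rw [← hN1, ← hNw'] at h'
    exact Es.map_inv S hN h'
  have hclosed : ∀ x ∈ T, (l : F) * (l : F) * x ∈ T := fun x hx => by
    rw [mul_assoc]; exact hround' _ (hround x hx)
  have hfull : ∀ x, x ∈ T := by
    refine scal_full T one_ne_zero h1 fun s hs x hx => ?_
    have hpow : ∀ n : ℕ, ∀ x ∈ T, ((l : F) * (l : F)) ^ n * x ∈ T := by
      intro n
      induction n with
      | zero => intro x hx; rwa [pow_zero, one_mul]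
      | succ n ih => intro x hx; rw [pow_succ, mul_assoc]; exact ih _ (hclosed x hx)
    obtain ⟨n, hn⟩ : ∃ n : ℕ, l ^ n = Units.mk0 s hs :=
      mem_powers_iff_mem_zpowers.2 (hl _)
    have e : s = (l : F) ^ n := by rw [← Units.val_pow_eq_pow_val, hn, Units.val_mk0]
    rw [e, ← mul_pow]
    exact hpow n x hx
  have hw1' : InS M (H.e i1) w' := hfull
  have hw1 : InS M (H.e i1) w := fun c => by
    have h := hround _ (hw1' ((l : F)⁻¹ * c))
    rwa [← mul_assoc, mul_inv_cancel₀ (Units.ne_zero l), one_mul] at h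
  -- both directions everywhere
  let P : (ι → F) → Prop := fun p => InS M p w ∧ InS M p w'
  have hPN : ∀ p q, P p → ∀ a : F, a ≠ 0 → N.1 p = a • q → P q := by
    intro p q hp a ha e
    refine ⟨fun c => ?_, fun c => ?_⟩
    · have h := Es.map S (hp.2 (a⁻¹ * c)) hN
      rw [e, hNw'] at h
      have h' := Es.smul_left S h
      rwa [← mul_assoc, mul_inv_cancel₀ ha, one_mul] at h'
    · have h := Es.map S (hp.1 (a⁻¹ * c)) hN
      rw [e, hNw] at h
      have h' := Es.smul_left S h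
      rwa [← mul_assoc, mul_inv_cancel₀ ha, one_mul] at h'
  have hPstep : ∀ p q, P p → N.1 p = q → P q := fun p q hp e =>
    hPN p q hp 1 one_ne_zero (by rw [e, one_smul])
  have hE1 : ∀ j (h : j ≤ k), 1 ≤ j → P (H.e (ix j h)) := by
    intro j h h1
    induction j, h1 using Nat.le_induction with
    | base => exact ⟨hw1, hw1'⟩
    | succ j h1 ih => exact hPstep _ _ (ih (by omega)) (hact.step j (by omega) h).1
  obtain ⟨c, c', hc, hc', hlast, hlast'⟩ := hact.last le_rfl (Nat.zero_le k)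
  have hF0 : P (H.f i0) := hPN _ _ (hE1 k le_rfl (by omega)) c hc hlast
  have hF : ∀ j (h : j ≤ k), P (H.f (ix j h)) := by
    intro j
    induction j with
    | zero => intro h; exact hF0
    | succ j ih => intro h; exact hPstep _ _ (ih (by omega)) (hact.step j (by omega) h).2
  have hE0 : P (H.e i0) := hPN _ _ (hF k le_rfl) c' hc' hlast'
  have hE : ∀ i, P (H.e i) := by
    rintro ⟨i, hi⟩
    rcases Nat.eq_zero_or_pos i with rfl | h
    · exact hE0
    · exact hE1 i (by omega) h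
  have hFall : ∀ i, P (H.f i) := fun ⟨i, hi⟩ => hF i (by omega)
  have hroot : ∀ a b : ι → F, P a → P b → Q a = 0 → Q b = 0 → pB Q a b = 0 →
      pB Q w a = 0 → pB Q w b = 0 → pB Q w' a = 0 → pB Q w' b = 0 → InR M b a := by
    intro a b ha hb hqa hqb hab h1 h2 h3 h4
    rcases hnz with h | h
    · exact InS.comm S ha.1 hb.1 hqa hqb hab h1 h2 h1 h2 h
    · exact InS.comm S ha.2 hb.1 hqa hqb hab h3 h4 h1 h2 h
  refine Hyp.eq_top S H i0 i1 (ix_ne (by omega))
    (fun i hi => hroot _ _ (hE i) (hFall i0) (H.qe _) (H.qf _) (by rw [H.ef, if_neg hi])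
      (hw _).1 (hw _).2 (hw' _).1 (hw' _).2)
    (fun i _ => hroot _ _ (hFall i) (hFall i0) (H.qf _) (H.qf _) (H.ff _ _)
      (hw _).2 (hw _).2 (hw' _).2 (hw' _).2)
    (hroot _ _ (hE i1) (hE i0) (H.qe _) (H.qe _) (H.ee _ _)
      (hw _).1 (hw _).1 (hw' _).1 (hw' _).1) ?_ ?_
  · intro v hv
    obtain ⟨a, b, rfl⟩ := hspan v hv
    exact ((InS.toInU S hw1 (H.qe i1) (hw i1).1).smul S a).add S
      ((InS.toInU S hw1' (H.qe i1) (hw' i1).1).smul S b)
  -- move `e 1` to `f 1`
  have hmove : ∀ j (h : j ≤ k), 1 ≤ j → ∃ g ∈ M, g.1 (H.e i1) = H.e (ix j h) := by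
    intro j h h1
    induction j, h1 using Nat.le_induction with
    | base => exact ⟨1, M.one_mem, rfl⟩
    | succ j h1 ih =>
      obtain ⟨g, hg, e⟩ := ih (by omega)
      exact ⟨N * g, M.mul_mem hN hg, by rw [om_mul_apply, e, (hact.step j (by omega) h).1]⟩
  obtain ⟨g, hg, e⟩ := hmove k le_rfl (by omega)
  refine ⟨N * (N * g), M.mul_mem hN (M.mul_mem hN hg), ?_⟩
  have h01 : N.1 (H.f i0) = H.f i1 := (hact.step 0 _ _).2
  rw [om_mul_apply, om_mul_apply, e, hlast, map_smul, h01, map_smul, LinearMap.smul_apply, H.fe S,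
    if_pos rfl, smul_eq_mul, mul_one]
  exact hc

theorem exists_two_gen_aniso (hk : 2 ≤ k) {w₀ w : ι → F} (h1 : Q w₀ = 1) (hp₀ : H.Perp w₀)
    (hp : H.Perp w)
    (hspan : ∀ v, H.Perp v → ∃ a b : F, v = a • w + b • (w - pB Q w w₀ • w₀))
    (hnz : pB Q w w ≠ 0 ∨ pB Q w (w - pB Q w w₀ • w₀) ≠ 0) :
    ∃ a b : Om (Q := Q), Subgroup.closure ({a, b} : Set (Om (Q := Q))) = ⊤ := by
  classical
  haveI := Fintype.ofFinite F
  obtain ⟨p, hpc⟩ := CharP.exists F
  haveI := hpc
  haveI : Fact p.Prime := ⟨CharP.char_is_prime F p⟩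
  obtain ⟨l, hl⟩ := IsCyclic.exists_generator (α := Fˣ)
  obtain ⟨N, hact, hNp⟩ := exists_cycAll S H h1 hp₀
  set w' := w - pB Q w w₀ • w₀ with hw'def
  have hp' : H.Perp w' := fun i => by
    simp [w', (hp i).1, (hp i).2, (hp₀ i).1, (hp₀ i).2]
  have hNw : N.1 w = w' := hNp w hp
  have hNw' : N.1 w' = w := by
    rw [hNp w' hp', hw'def, map_sub, map_smul, LinearMap.sub_apply, LinearMap.smul_apply,
      S.pB_self w₀, h1, smul_eq_mul]
    module
  have h12 : ix 1 (le_trans (by omega) hk) ≠ ix 2 hk := ix_ne (by omega)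
  let i2 : Fin (k + 1) := ix 2 hk
  let t : F := if p = 2 then 1 else 0
  let E : ℕ := (if p = 2 then 3 else 4) * Fintype.card Fˣ
  let T := torus S (H.swap S i2) h12 l
  let C := mix S H h12 t
  have hswapP : ∀ v, H.Perp v → (H.swap S i2).Perp v := fun v hv i => by
    by_cases h : i = i2
    · simp [Hyp.swap, h, (hv i2).1, (hv i2).2]
    · simp [Hyp.swap, h, (hv i).1, (hv i).2]
  have hTe : ∀ i, T.1 (H.e i) =
      (if i = ix 1 (le_trans (by omega) hk) ∨ i = i2 then (l : F) else 1) • H.e i := by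
    intro i
    by_cases h : i = i2
    · subst h
      have e : (H.swap S i2).f i2 = H.e i2 := by simp [Hyp.swap]
      rw [← e, torus_f, if_neg h12.symm, if_pos rfl, if_pos (Or.inr rfl)]
    · have e : (H.swap S i2).e i = H.e i := if_neg h
      rw [← e, torus_e, if_neg h]
      by_cases h' : i = ix 1 (le_trans (by omega) hk) <;> simp [h, h']
  have hTf : ∀ i, T.1 (H.f i) =
      (if i = ix 1 (le_trans (by omega) hk) ∨ i = i2 then (↑l⁻¹ : F) else 1) • H.f i := by
    intro i
    by_cases h : i = i2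
    · subst h
      have e : (H.swap S i2).e i2 = H.f i2 := by simp [Hyp.swap]
      rw [← e, torus_e, if_neg h12.symm, if_pos rfl, if_pos (Or.inr rfl)]
    · have e : (H.swap S i2).f i = H.f i := if_neg h
      rw [← e, torus_f, if_neg h]
      by_cases h' : i = ix 1 (le_trans (by omega) hk) <;> simp [h, h']
  have hTp : ∀ v, H.Perp v → T.1 v = v := fun v hv => torus_perp S _ _ _ (hswapP v hv)
  have hTC : Commute T C := by
    refine H.om_ext S (fun i => ?_) (fun i => ?_) (fun v hv => ?_)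
    · rw [om_mul_apply, om_mul_apply, mix_e, hTe i, map_smul, mix_e]
      by_cases h : i = ix 1 (le_trans (by omega) hk)
      · rw [if_pos h, if_pos (Or.inl h), hTe, if_pos (Or.inr rfl)]
      by_cases h' : i = i2
      · rw [if_neg h, if_pos h', if_pos (Or.inr h'), map_add, map_neg, map_smul, hTe, hTe,
          if_pos (Or.inl rfl), if_pos (Or.inr rfl)]
        module
      · rw [if_neg h, if_neg h', if_neg (not_or.2 ⟨h, h'⟩), hTe, if_neg (not_or.2 ⟨h, h'⟩), one_smul]
    · rw [om_mul_apply, om_mul_apply, mix_f, hTf i, map_smul, mix_f]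
      by_cases h : i = ix 1 (le_trans (by omega) hk)
      · rw [if_pos h, if_pos (Or.inl h), map_add, map_smul, hTf, hTf, if_pos (Or.inl rfl),
          if_pos (Or.inr rfl)]
        module
      by_cases h' : i = i2
      · rw [if_neg h, if_pos h', if_pos (Or.inr h'), map_neg, hTf, if_pos (Or.inl rfl)]
        module
      · rw [if_neg h, if_neg h', if_neg (not_or.2 ⟨h, h'⟩), hTf, if_neg (not_or.2 ⟨h, h'⟩), one_smul]
    · rw [om_mul_apply, om_mul_apply, mix_perp S H _ _ hv, hTp v hv, mix_perp S H _ _ hv]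
  have hTpow : T ^ Fintype.card Fˣ = 1 := by
    show torusHom S (H.swap S i2) h12 l ^ _ = 1
    rw [← map_pow, pow_card_eq_one, map_one]
  have hzE : (T * C) ^ E = 1 := by
    rw [hTC.mul_pow]
    have h1 : T ^ E = 1 := by rw [show E = _ * _ from rfl, mul_comm, pow_mul, hTpow, one_pow]
    rw [h1, one_mul, show E = _ * _ from rfl, pow_mul]
    by_cases h2 : p = 2
    · subst h2
      show (mix S H h12 (if 2 = 2 then (1 : F) else 0) ^ (if 2 = 2 then 3 else 4)) ^ _ = 1
      rw [if_pos rfl, if_pos rfl, mix_pow_three S H (CharTwo.two_eq_zero) h12, one_pow]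
    · show (mix S H h12 (if p = 2 then (1 : F) else 0) ^ (if p = 2 then 3 else 4)) ^ _ = 1
      rw [if_neg h2, if_neg h2, mix_pow_four S H h12, one_pow]
  have hco : p.Coprime E := by
    refine Nat.Coprime.mul_right ?_ ?_
    · by_cases h2 : p = 2
      · rw [if_pos h2, h2]; norm_num
      · rw [if_neg h2]
        refine (Nat.Coprime.pow_right 2 ((Nat.coprime_primes Fact.out Nat.prime_two).2 h2) :)
    · rw [Fintype.card_units]
      refine (Nat.Prime.coprime_iff_not_dvd Fact.out).2 fun hd => ?_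
      obtain ⟨n, -, hn⟩ := FiniteField.card F p
      have h1 : p ∣ Fintype.card F := by rw [hn]; exact dvd_pow_self p n.pos.ne'
      have h2 := Nat.dvd_sub h1 hd
      rw [Nat.sub_sub_self Fintype.card_pos] at h2
      exact (Fact.out : p.Prime).one_lt.ne' (Nat.dvd_one.1 h2)
  let r := sg S (H.e (ix 0 (Nat.zero_le k))) w (H.qe _) (hp _).1
  have hz0 : (T * C).1 (H.e (ix 0 (Nat.zero_le k))) = H.e (ix 0 (Nat.zero_le k)) := by
    rw [om_mul_apply, mix_e, if_neg (ix_ne (by omega)), if_neg (ix_ne (by omega)), hTe,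
      if_neg (not_or.2 ⟨ix_ne (by omega), ix_ne (by omega)⟩), one_smul]
  have hzfix : ∀ v, H.Perp v → (T * C).1 v = v := fun v hv => by
    rw [om_mul_apply, mix_perp S H _ _ hv, hTp v hv]
  have hrz : Commute r (T * C) := by
    have h0 := mem_oGroup_of_mem_Om (T * C).2
    refine (show Commute (T * C) r from mul_inv_eq_iff_eq_mul.1 (Subtype.ext ?_)).symm
    exact (S.siegel_conj h0 (H.qe _) (hp _).1).trans
      (S.siegel_congr hz0 (hzfix w hp) (hu' := H.qe _) (hw' := (hp _).1))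
  refine ⟨r * (T * C), N, ?_⟩
  set M := Subgroup.closure ({r * (T * C), N} : Set (Om (Q := Q)))
  obtain ⟨hr, hz⟩ := mem_of_coprime hrz (AutPOmega.sg_pow_char S p _ _) hzE hco
    (Subgroup.subset_closure (Set.mem_insert _ _) : r * (T * C) ∈ M)
  refine eq_top_of_short S H hk (Subgroup.subset_closure (Set.mem_insert_of_mem _ rfl)) hz hact hl
    hp hp' hNw hNw' ⟨r, hr, fun x => by rw [one_smul]; rfl⟩ ?_ (hzfix w hp) (hzfix w' hp')
    hspan hnz
  rw [om_mul_apply, mix_e, if_pos rfl, hTe, if_pos (Or.inr rfl)]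

end Cfsg.Agent.ClassTwoGen
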