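import Cfsg.Agent.Lib.ClassTwoGen.OmSpan

/-!
# Two generators for derived orthogonal groups with at least four hyperbolic pairs
-/

set_option autoImplicit false
set_option linter.unusedSectionVars false

namespace Cfsg.Agent.ClassTwoGen

open Cfsg.Agent Cfsg.Agent.TransvMax Cfsg.Agent.QMax
open Cfsg.Agent.OrthSimple (Om sg mem_oGroup_of_mem_Om)

universe u

variable {ι : Type} [Fintype ι] [DecidableEq ι] {F : Type u} [Field F] [Finite F]
  {Q : QuadraticForm F (ι → F)}

/-- The pair with index `j`. -/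
def ix {k : ℕ} (j : ℕ) (h : j ≤ k) : Fin (k + 1) := ⟨j, Nat.lt_succ_of_le h⟩

theorem ix_ne {k i j : ℕ} {hi : i ≤ k} {hj : j ≤ k} (h : i ≠ j) : ix i hi ≠ ix j hj :=
  fun e => h (congrArg Fin.val e)

variable {k : ℕ}

/-- How the monomial generator moves the system: pair `0` is exchanged, the others are cycled
through both members. -/
structure CycAct (H : Hyp Q (k + 1)) (N : Om (Q := Q)) : Prop where
  zero : ∀ h, ∃ a b : F, a ≠ 0 ∧ b ≠ 0 ∧ N.1 (H.e (ix 0 h)) = a • H.f (ix 0 h) ∧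
    N.1 (H.f (ix 0 h)) = b • H.e (ix 0 h)
  step : ∀ j h h', 1 ≤ j → N.1 (H.e (ix j h)) = H.e (ix (j + 1) h') ∧
    N.1 (H.f (ix j h)) = H.f (ix (j + 1) h')
  last : ∀ h h', ∃ a b : F, a ≠ 0 ∧ b ≠ 0 ∧ N.1 (H.e (ix k h)) = a • H.f (ix 1 h') ∧
    N.1 (H.f (ix k h)) = b • H.e (ix 1 h')

/-- A single root element of the line spanned by `u` and `w`. -/
def El (M : Subgroup (Om (Q := Q))) (u w : ι → F) (c : F) : Prop :=
  ∃ g ∈ M, ∀ x, g.1 x = x + c • (pB Q x u • w - pB Q x w • u)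

theorem El.of_smul {M : Subgroup (Om (Q := Q))} {u w : ι → F} {a b c : F}
    (h : El M (a • u) (b • w) c) : El M u w (a * b * c) := by
  obtain ⟨g, hg, e⟩ := h
  exact ⟨g, hg, fun x => by rw [e, map_smul, map_smul]; simp only [smul_eq_mul]; module⟩

theorem El.map {M : Subgroup (Om (Q := Q))} {u w : ι → F} {c : F} (S : QSetting Q)
    (h : El M u w c) {g : Om (Q := Q)} (hg : g ∈ M) : El M (g.1 u) (g.1 w) c := by
  obtain ⟨r, hr, e⟩ := h
  exact ⟨g * r * g⁻¹, M.mul_mem (M.mul_mem hg hr) (M.inv_mem hg), root_conj S e⟩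

theorem El.map_inv {M : Subgroup (Om (Q := Q))} {u w : ι → F} {c : F} (S : QSetting Q)
    {g : Om (Q := Q)} (hg : g ∈ M) (h : El M (g.1 u) (g.1 w) c) : El M u w c := by
  have h' := El.map S h (M.inv_mem hg)
  have e : ∀ x, (g⁻¹ : Om (Q := Q)).1 (g.1 x) = x := fun x => g.1.symm_apply_apply x
  rwa [e, e] at h'

/-- An additive subgroup with a non-zero element closed under multiplication by squares is full. -/
theorem scal_full (T : AddSubgroup F) {c : F} (hc : c ≠ 0) (h0 : c ∈ T)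
    (hsq : ∀ a : F, a ≠ 0 → ∀ x ∈ T, a * a * x ∈ T) (x : F) : x ∈ T := by
  have hs : ∀ a : F, a * a * c ∈ T := fun a => by
    by_cases ha : a = 0
    · rw [ha, zero_mul, zero_mul]; exact T.zero_mem
    · exact hsq a ha c h0
  by_cases h2 : (2 : F) = 0
  · haveI : CharP F 2 := CharTwo.of_one_ne_zero_of_two_eq_zero one_ne_zero h2
    obtain ⟨a, ha⟩ := FiniteField.isSquare_of_char_two (ringChar.eq F 2) (x / c)
    have h := hs a
    rwa [← ha, div_mul_cancel₀ _ hc] at h
  · have e : x = (x / c + 1) / 2 * ((x / c + 1) / 2) * c -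
        (x / c - 1) / 2 * ((x / c - 1) / 2) * c := by
      field_simp
      ring
    rw [e]
    exact T.sub_mem (hs _) (hs _)

/-- From a product `r * z` of commuting elements of coprime order one recovers both factors. -/
theorem mem_of_coprime {G : Type*} [Group G] {M : Subgroup G} {r z : G} (hc : Commute r z)
    {p E : ℕ} (hr : r ^ p = 1) (hz : z ^ E = 1) (hco : p.Coprime E) (h : r * z ∈ M) :
    r ∈ M ∧ z ∈ M := by
  have h1 : r ∈ M := by
    have hE : r ^ E ∈ M := by
      have := M.pow_mem h E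
      rwa [hc.mul_pow, hz, mul_one] at this
    have hd : orderOf r ∣ p := orderOf_dvd_of_pow_eq_one hr
    obtain ⟨n, hn⟩ := exists_pow_eq_self_of_coprime (n := E) (x := r)
      ((Nat.Coprime.coprime_dvd_left hd hco).symm)
    rw [← hn]
    exact M.pow_mem hE n
  exact ⟨h1, by simpa using M.mul_mem (M.inv_mem h1) h⟩

variable (S : QSetting Q) (H : Hyp Q (k + 1))

include S

/-- `e_1 ↦ e_2 ↦ … ↦ e_(j+1) ↦ ± e_1`, likewise for the `f`'s. -/
noncomputable def cycle : (j : ℕ) → j < k → Om (Q := Q)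
  | 0, _ => 1
  | j + 1, h => cycle j (Nat.lt_of_succ_lt h) *
      weyl S H (ix_ne (hi := Nat.le_of_lt h) (hj := Nat.succ_le_of_lt h) (Nat.ne_of_lt (Nat.lt_succ_self (j + 1)))) 1

theorem cycle_spec : ∀ (j : ℕ) (hj : j < k),
    (∀ i h h', 1 ≤ i → i ≤ j →
      (cycle S H j hj).1 (H.e (ix i h)) = H.e (ix (i + 1) h') ∧
      (cycle S H j hj).1 (H.f (ix i h)) = H.f (ix (i + 1) h')) ∧
    (∀ h h', (cycle S H j hj).1 (H.e (ix (j + 1) h)) = (-1 : F) ^ j • H.e (ix 1 h') ∧
      (cycle S H j hj).1 (H.f (ix (j + 1) h)) = (-1 : F) ^ j • H.f (ix 1 h')) ∧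
    (∀ i h, (i = 0 ∨ j + 1 < i) → (cycle S H j hj).1 (H.e (ix i h)) = H.e (ix i h) ∧
      (cycle S H j hj).1 (H.f (ix i h)) = H.f (ix i h)) ∧
    (∀ v, H.Perp v → (cycle S H j hj).1 v = v) := by
  intro j
  induction j with
  | zero =>
    intro hj
    refine ⟨fun i h h' h1 h2 => absurd h2 (by omega), fun h h' => ?_, fun i h _ => ⟨rfl, rfl⟩,
      fun v _ => rfl⟩
    simp only [cycle, pow_zero, one_smul]
    exact ⟨rfl, rfl⟩
  | succ j ih =>
    intro hj
    obtain ⟨hA, hB, hC, hD⟩ := ih (Nat.lt_of_succ_lt hj)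
    have e1 : ∀ i (h : i ≤ k), i ≠ j + 1 → ix i h ≠ ix (j + 1) (Nat.le_of_lt hj) :=
      fun i h hne => ix_ne hne
    have e2 : ∀ i (h : i ≤ k), i ≠ j + 2 → ix i h ≠ ix (j + 2) (Nat.succ_le_of_lt hj) :=
      fun i h hne => ix_ne hne
    refine ⟨fun i h h' h1 h2 => ?_, fun h h' => ?_, fun i h hi => ?_, fun v hv => ?_⟩
    · rcases Nat.lt_or_ge i (j + 1) with hlt | hge
      · rw [cycle, om_mul_apply, om_mul_apply, weyl_e, weyl_f, if_neg (e1 i h (by omega)),
          if_neg (e2 i h (by omega)), if_neg (e1 i h (by omega)), if_neg (e2 i h (by omega))]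
        exact hA i h h' h1 (by omega)
      · obtain rfl : i = j + 1 := by omega
        rw [cycle, om_mul_apply, om_mul_apply, weyl_e, weyl_f, if_pos rfl, if_pos rfl]
        simp only [Units.val_one, inv_one, one_smul]
        exact hC (j + 1 + 1) h' (Or.inr (by omega))
    · rw [cycle, om_mul_apply, om_mul_apply, weyl_e, weyl_f, if_neg (e1 _ h (by omega)), if_pos rfl,
        if_neg (e1 _ h (by omega)), if_pos rfl]
      simp only [Units.val_one, inv_one, neg_one_smul, map_neg]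
      rw [(hB _ h').1, (hB _ h').2, pow_succ, mul_neg_one, neg_smul, neg_smul]
      exact ⟨rfl, rfl⟩
    · rw [cycle, om_mul_apply, om_mul_apply, weyl_e, weyl_f, if_neg (e1 i h (by omega)),
        if_neg (e2 i h (by omega)), if_neg (e1 i h (by omega)), if_neg (e2 i h (by omega))]
      exact hC i h (hi.imp id (fun h => by omega))
    · rw [cycle, om_mul_apply, weyl_perp S H _ _ hv, hD v hv]

/-- Exchange of the members in two pairs, with signs. -/
noncomputable def dswap {i j : Fin (k + 1)} (hij : i ≠ j) : Om (Q := Q) :=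
  weyl S H hij 1 * weyl S (H.swap S j) hij 1

theorem dswap_spec {i j : Fin (k + 1)} (hij : i ≠ j) :
    (dswap S H hij).1 (H.e i) = -H.f i ∧ (dswap S H hij).1 (H.f i) = -H.e i ∧
    (dswap S H hij).1 (H.e j) = -H.f j ∧ (dswap S H hij).1 (H.f j) = -H.e j ∧
    (∀ l, l ≠ i → l ≠ j → (dswap S H hij).1 (H.e l) = H.e l ∧ (dswap S H hij).1 (H.f l) = H.f l) ∧
    (∀ v, H.Perp v → (dswap S H hij).1 v = v) := by
  have hj1 : (H.swap S j).e j = H.f j := if_pos rfl
  have hj2 : (H.swap S j).f j = H.e j := if_pos rfl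
  have hl1 : ∀ l, l ≠ j → (H.swap S j).e l = H.e l := fun l h => if_neg h
  have hl2 : ∀ l, l ≠ j → (H.swap S j).f l = H.f l := fun l h => if_neg h
  refine ⟨?_, ?_, ?_, ?_, fun l h1 h2 => ⟨?_, ?_⟩, fun v hv => ?_⟩
  · rw [dswap, om_mul_apply, ← hl1 i hij, weyl_e, if_pos rfl, hj1, Units.val_one, one_smul, weyl_f,
      if_neg hij.symm, if_pos rfl, Units.val_one, neg_one_smul]
  · rw [dswap, om_mul_apply, ← hl2 i hij, weyl_f, if_pos rfl, hj2, inv_one, Units.val_one, one_smul,
      weyl_e, if_neg hij.symm, if_pos rfl, inv_one, Units.val_one, neg_one_smul]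
  · rw [dswap, om_mul_apply, ← hj2, weyl_f, if_neg hij.symm, if_pos rfl, hl2 i hij,
      Units.val_one, neg_one_smul, map_neg, weyl_f, if_pos rfl, inv_one, Units.val_one, one_smul]
  · rw [dswap, om_mul_apply, ← hj1, weyl_e, if_neg hij.symm, if_pos rfl, hl1 i hij, inv_one,
      Units.val_one, neg_one_smul, map_neg, weyl_e, if_pos rfl, Units.val_one, one_smul]
  · rw [dswap, om_mul_apply, ← hl1 l h2, weyl_e, if_neg h1, if_neg h2, hl1 l h2, weyl_e, if_neg h1,
      if_neg h2]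
  · rw [dswap, om_mul_apply, ← hl2 l h2, weyl_f, if_neg h1, if_neg h2, hl2 l h2, weyl_f, if_neg h1,
      if_neg h2]
  · have hv' : (H.swap S j).Perp v := fun l => by
      by_cases h : l = j
      · subst h; exact ⟨by rw [hj1]; exact (hv l).2, by rw [hj2]; exact (hv l).1⟩
      · exact ⟨by rw [hl1 l h]; exact (hv l).1, by rw [hl2 l h]; exact (hv l).2⟩
    rw [dswap, om_mul_apply, weyl_perp S _ _ _ hv', weyl_perp S H _ _ hv]

/-- The monomial generator. -/
noncomputable def monoN (hk : 1 ≤ k) : Om (Q := Q) :=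
  dswap S H (ix_ne (hi := Nat.zero_le k) (hj := hk) (zero_ne_one (α := ℕ))) *
    cycle S H (k - 1) (Nat.sub_lt hk Nat.one_pos)

theorem monoN_act (hk : 1 ≤ k) : CycAct H (monoN S H hk) := by
  obtain ⟨d1, d2, d3, d4, d5, -⟩ := dswap_spec S H (ix_ne (hi := Nat.zero_le k) (hj := hk)
    (zero_ne_one (α := ℕ)))
  obtain ⟨hA, hB, hC, -⟩ := cycle_spec S H (k - 1) (Nat.sub_lt hk Nat.one_pos)
  refine ⟨fun h => ⟨-1, -1, by simp, by simp, ?_, ?_⟩, fun j h h' h1 => ?_, fun h h' => ?_⟩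
  · rw [monoN, om_mul_apply, (hC 0 h (Or.inl rfl)).1, neg_one_smul]
    exact d1
  · rw [monoN, om_mul_apply, (hC 0 h (Or.inl rfl)).2, neg_one_smul]
    exact d2
  · obtain ⟨a, b⟩ := hA j h h' h1 (by omega)
    rw [monoN, om_mul_apply, om_mul_apply, a, b]
    exact d5 _ (ix_ne (by omega)) (ix_ne (by omega))
  · have hk' : k - 1 + 1 = k := by omega
    have e : ix (k - 1 + 1) (le_of_eq hk') = ix k h := Fin.ext hk'
    obtain ⟨a, b⟩ := hB (le_of_eq hk') h'
    rw [e] at a b
    refine ⟨-(-1 : F) ^ (k - 1), -(-1 : F) ^ (k - 1), by simp, by simp, ?_, ?_⟩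
    · rw [monoN, om_mul_apply, a, map_smul, d3]; module
    · rw [monoN, om_mul_apply, b, map_smul, d4]; module

variable {M : Subgroup (Om (Q := Q))}

/-- The subgroup of scalars of root elements of one line. -/
def scal (M : Subgroup (Om (Q := Q))) (u w : ι → F) (hu : Q u = 0) (hw : pB Q w u = 0) :
    AddSubgroup F where
  carrier := {c | rt S u w hu hw c ∈ M}
  zero_mem' := by
    show rt S u w hu hw 0 ∈ M
    convert M.one_mem using 1
    refine Subtype.ext (LinearEquiv.ext fun x => ?_)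
    show siegelHom Q u ((0 : F) • w) x = x
    rw [zero_smul, S.siegelHom_zero]
  add_mem' {a b} ha hb := by
    show rt S u w hu hw (a + b) ∈ M
    convert M.mul_mem ha hb using 1
    refine Subtype.ext (LinearEquiv.ext fun x => ?_)
    show siegelHom Q u ((a + b) • w) x = siegelHom Q u (a • w) (siegelHom Q u (b • w) x)
    rw [S.siegelHom_siegelHom hu (by rw [map_smul, LinearMap.smul_apply, hw, smul_zero])
      (by rw [map_smul, LinearMap.smul_apply, hw, smul_zero]), add_smul]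
  neg_mem' {a} ha := by
    show rt S u w hu hw (-a) ∈ M
    have e : rt S u w hu hw (-a) * rt S u w hu hw a = 1 := by
      refine Subtype.ext (LinearEquiv.ext fun x => ?_)
      show siegelHom Q u ((-a) • w) (siegelHom Q u (a • w) x) = x
      rw [S.siegelHom_siegelHom hu (by rw [map_smul, LinearMap.smul_apply, hw, smul_zero])
        (by rw [map_smul, LinearMap.smul_apply, hw, smul_zero]), ← add_smul, neg_add_cancel,
        zero_smul, S.siegelHom_zero]
    rw [eq_inv_of_mul_eq_one_left e]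
    exact M.inv_mem ha

theorem El.mem {u w : ι → F} {c : F} (h : El M u w c) (hu : Q u = 0) (hw : pB Q w u = 0)
    (hq : Q w = 0) : c ∈ scal S M u w hu hw := by
  obtain ⟨g, hg, e⟩ := h
  show rt S u w hu hw c ∈ M
  convert hg using 1
  exact Subtype.ext (LinearEquiv.ext fun x => by rw [rt_apply S hu hw hq, e])

/-- The three elements generate the root groups needed by the criterion. -/
theorem eq_top_of_three (hk : 3 ≤ k) {N z : Om (Q := Q)} (hN : N ∈ M) (hz : z ∈ M)
    (hact : CycAct H N) {l : Fˣ} (hl : ∀ y : Fˣ, y ∈ Subgroup.zpowers l)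
    (hr : rt S (H.e (ix 0 (Nat.zero_le k))) (H.e (ix 1 (by omega))) (H.qe _) (H.ee _ _) 1 ∈ M)
    (ze0 : z.1 (H.e (ix 0 (Nat.zero_le k))) = (l : F) • H.e (ix 0 (Nat.zero_le k)))
    (zf0 : z.1 (H.f (ix 0 (Nat.zero_le k))) = (↑l⁻¹ : F) • H.f (ix 0 (Nat.zero_le k)))
    (ze1 : z.1 (H.e (ix 1 (by omega))) = (↑l⁻¹ : F) • H.e (ix 1 (by omega)))
    (ze2 : z.1 (H.e (ix 2 (by omega))) = H.e (ix 3 hk))
    (hp : (∀ i, i ≠ ix 0 (Nat.zero_le k) →
        InR M (H.f (ix 0 (Nat.zero_le k))) (H.e i) ∧ InR M (H.f (ix 0 (Nat.zero_le k))) (H.f i)) →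
      InR M (H.e (ix 0 (Nat.zero_le k))) (H.e (ix 1 (by omega))) →
      ∀ v, H.Perp v → InU S M (H.e (ix 1 (by omega))) (H.qe _) v) : M = ⊤ := by
  let i0 : Fin (k + 1) := ix 0 (Nat.zero_le k)
  let i1 : Fin (k + 1) := ix 1 (by omega)
  let i2 : Fin (k + 1) := ix 2 (by omega)
  let i3 : Fin (k + 1) := ix 3 hk
  obtain ⟨a, b, ha, hb, hN0, hN0'⟩ := hact.zero (Nat.zero_le k)
  have hN1 : N.1 (H.e i1) = H.e i2 := (hact.step 1 _ _ le_rfl).1
  have hN2 : N.1 (H.e i2) = H.e i3 := (hact.step 2 _ _ (by omega)).1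
  have hNN : N * N ∈ M := M.mul_mem hN hN
  have hNNf0 : (N * N).1 (H.f i0) = (b * a) • H.f i0 := by
    rw [om_mul_apply, hN0', map_smul, hN0, smul_smul]
  have hNNe0 : (N * N).1 (H.e i0) = (a * b) • H.e i0 := by
    rw [om_mul_apply, hN0, map_smul, hN0', smul_smul]
  have hNNe1 : (N * N).1 (H.e i1) = H.e i3 := by rw [om_mul_apply, hN1, hN2]
  -- scalars on the line of `f 0`, `e 1`
  have hfe : pB Q (H.e i1) (H.f i0) = 0 := by rw [H.ef, if_neg (ix_ne (by omega))]
  let T := scal S M (H.f i0) (H.e i1) (H.qf i0) hfe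
  have hba : b * a ≠ 0 := mul_ne_zero hb ha
  have el0 : El M (H.e i0) (H.e i1) 1 :=
    ⟨_, hr, fun x => rt_apply S _ _ (H.qe i1) 1 x⟩
  have hseed : (b * a)⁻¹ * ((↑l⁻¹ : F) * a) ∈ T := by
    have h1 := El.map S el0 hN
    rw [hN0, hN1, ← one_smul F (H.e i2)] at h1
    have h2 := El.map S (El.of_smul h1) hz
    rw [zf0, ze2, ← one_smul F (H.e i3)] at h2
    have h3 := El.of_smul h2
    have e1 : H.f i0 = (b * a)⁻¹ • (N * N).1 (H.f i0) := by
      rw [hNNf0, smul_smul, inv_mul_cancel₀ hba, one_smul]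
    rw [e1, ← hNNe1, ← one_smul F ((N * N).1 (H.e i1))] at h3
    have h4 := El.map_inv S hNN (El.of_smul h3)
    convert El.mem S h4 (H.qf i0) hfe (H.qe i1) using 1
    ring
  have hclosed : ∀ x ∈ T, (↑l⁻¹ : F) * (↑l⁻¹ : F) * x ∈ T := by
    intro x hx
    have el : El M (H.f i0) (H.e i1) x := ⟨_, hx, fun y => rt_apply S _ _ (H.qe i1) x y⟩
    have h1 := El.map S el hz
    rw [zf0, ze1] at h1
    exact El.mem S (El.of_smul h1) (H.qf i0) hfe (H.qe i1)
  have hfull : ∀ x, x ∈ T := by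
    refine scal_full T ?_ hseed fun s hs x hx => ?_
    · exact mul_ne_zero (inv_ne_zero hba) (mul_ne_zero (Units.ne_zero _) ha)
    have hpow : ∀ n : ℕ, ∀ x ∈ T, ((↑l⁻¹ : F) * (↑l⁻¹ : F)) ^ n * x ∈ T := by
      intro n
      induction n with
      | zero => intro x hx; rwa [pow_zero, one_mul]
      | succ n ih => intro x hx; rw [pow_succ, mul_assoc]; exact ih _ (hclosed x hx)
    obtain ⟨n, hn⟩ : ∃ n : ℕ, l⁻¹ ^ n = Units.mk0 s hs := by
      have h : Units.mk0 s hs ∈ Subgroup.zpowers l⁻¹ := by rw [Subgroup.zpowers_inv]; exact hl _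
      exact mem_powers_iff_mem_zpowers.2 h
    have e : s = (↑l⁻¹ : F) ^ n := by rw [← Units.val_pow_eq_pow_val, hn, Units.val_mk0]
    rw [e, ← mul_pow]
    exact hpow n x hx
  have hFE1 : InR M (H.f i0) (H.e i1) := fun c =>
    ⟨_, hfull c, fun x => rt_apply S (H.qf i0) hfe (H.qe i1) c x⟩
  have hEE1 : InR M (H.e i0) (H.e i1) := by
    have h := InR.map S (InR.map S hFE1 hN) hz
    rw [hN0', hN1, map_smul, ze0, ze2, smul_smul] at h
    have h' : InR M (H.e i0) (H.e i3) :=
      InR.of_smul (mul_ne_zero hb (Units.ne_zero l)) one_ne_zero (by rwa [one_smul])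
    refine InR.map_inv S hNN ?_
    rw [hNNe0, hNNe1]
    exact h'.smul_left _
  -- everything joining pair `0` to another
  have hstep : ∀ u w : ι → F, InR M (H.e i0) u → InR M (H.f i0) u → N.1 u = w →
      InR M (H.e i0) w ∧ InR M (H.f i0) w := by
    intro u w h h' e
    constructor
    · have g := InR.map S h' hN
      rw [hN0', e] at g
      exact InR.of_smul hb one_ne_zero (by rwa [one_smul])
    · have g := InR.map S h hN
      rw [hN0, e] at g
      exact InR.of_smul ha one_ne_zero (by rwa [one_smul])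
  have hE : ∀ j (h : j ≤ k), 1 ≤ j →
      InR M (H.e i0) (H.e (ix j h)) ∧ InR M (H.f i0) (H.e (ix j h)) := by
    intro j h h1
    induction j, h1 using Nat.le_induction with
    | base => exact ⟨hEE1, hFE1⟩
    | succ j h1 ih =>
      obtain ⟨p, q⟩ := ih (by omega)
      exact hstep _ _ p q (hact.step j (by omega) h h1).1
  have hF : ∀ j (h : j ≤ k), 1 ≤ j →
      InR M (H.e i0) (H.f (ix j h)) ∧ InR M (H.f i0) (H.f (ix j h)) := by
    intro j h h1
    induction j, h1 using Nat.le_induction with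
    | base =>
      obtain ⟨c, c', hc, -, hlast, -⟩ := hact.last le_rfl h
      obtain ⟨p, q⟩ := hE k le_rfl (by omega)
      obtain ⟨p', q'⟩ := hstep _ _ p q hlast
      have p'' : InR M ((1 : F) • H.e i0) (c • H.f (ix 1 h)) := by rwa [one_smul]
      have q'' : InR M ((1 : F) • H.f i0) (c • H.f (ix 1 h)) := by rwa [one_smul]
      exact ⟨InR.of_smul one_ne_zero hc p'', InR.of_smul one_ne_zero hc q''⟩
    | succ j h1 ih =>
      obtain ⟨p, q⟩ := ih (by omega)
      exact hstep _ _ p q (hact.step j (by omega) h h1).2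
  have hall : ∀ i, i ≠ i0 → InR M (H.f i0) (H.e i) ∧ InR M (H.f i0) (H.f i) := by
    rintro ⟨i, hi⟩ hne
    have h1 : 1 ≤ i := Nat.one_le_iff_ne_zero.2 fun e => hne (Fin.ext e)
    exact ⟨(hE i (by omega) h1).2, (hF i (by omega) h1).2⟩
  refine Hyp.eq_top S H i0 i1 (ix_ne (by omega)) (fun i h => (hall i h).1) (fun i h => (hall i h).2)
    hEE1 (hp hall hEE1) ?_
  -- move `e 1` to `f 1`
  have hmove : ∀ j (h : j ≤ k), 1 ≤ j → ∃ g ∈ M, g.1 (H.e i1) = H.e (ix j h) := by
    intro j h h1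
    induction j, h1 using Nat.le_induction with
    | base => exact ⟨1, M.one_mem, rfl⟩
    | succ j h1 ih =>
      obtain ⟨g, hg, e⟩ := ih (by omega)
      exact ⟨N * g, M.mul_mem hN hg, by rw [om_mul_apply, e, (hact.step j (by omega) h h1).1]⟩
  obtain ⟨g, hg, e⟩ := hmove k le_rfl (by omega)
  obtain ⟨c, c', hc, -, hlast, -⟩ := hact.last le_rfl (show 1 ≤ k by omega)
  refine ⟨N * g, M.mul_mem hN hg, ?_⟩
  rw [om_mul_apply, e, hlast, map_smul, LinearMap.smul_apply, H.fe S, if_pos rfl, smul_eq_mul,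
    mul_one]
  exact hc

theorem exists_two_gen_plus (hk : 3 ≤ k) (hperp : ∀ v, H.Perp v → v = 0) :
    ∃ a b : Om (Q := Q), Subgroup.closure ({a, b} : Set (Om (Q := Q))) = ⊤ := by
  classical
  haveI := Fintype.ofFinite F
  obtain ⟨p, hp⟩ := CharP.exists F
  haveI := hp
  haveI : Fact p.Prime := ⟨CharP.char_is_prime F p⟩
  obtain ⟨l, hl⟩ := IsCyclic.exists_generator (α := Fˣ)
  have h01 : ix 0 (Nat.zero_le k) ≠ ix 1 (le_trans (by omega) hk) := ix_ne (by omega)
  have h23 : ix 2 (le_trans (by omega) hk) ≠ ix 3 hk := ix_ne (by omega)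
  let t : F := if p = 2 then 1 else 0
  let E : ℕ := (if p = 2 then 3 else 4) * Fintype.card Fˣ
  let T := torus S H h01 l
  let C := mix S H h23 t
  let r := rt S (H.e (ix 0 (Nat.zero_le k))) (H.e (ix 1 (le_trans (by omega) hk))) (H.qe _) (H.ee _ _) 1
  have hTC : Commute T C := torus_mix_comm S H h01 h23
    ⟨ix_ne (by omega), ix_ne (by omega)⟩ ⟨ix_ne (by omega), ix_ne (by omega)⟩ l t
  have hTpow : T ^ Fintype.card Fˣ = 1 := by
    show torusHom S H h01 l ^ _ = 1
    rw [← map_pow, pow_card_eq_one, map_one]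
  have hzE : (T * C) ^ E = 1 := by
    rw [hTC.mul_pow]
    have h1 : T ^ E = 1 := by rw [show E = _ * _ from rfl, mul_comm, pow_mul, hTpow, one_pow]
    rw [h1, one_mul, show E = _ * _ from rfl, pow_mul]
    by_cases h2 : p = 2
    · subst h2
      show (mix S H h23 (if 2 = 2 then (1 : F) else 0) ^ (if 2 = 2 then 3 else 4)) ^ _ = 1
      rw [if_pos rfl, if_pos rfl, mix_pow_three S H (CharTwo.two_eq_zero) h23, one_pow]
    · show (mix S H h23 (if p = 2 then (1 : F) else 0) ^ (if p = 2 then 3 else 4)) ^ _ = 1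
      rw [if_neg h2, if_neg h2, mix_pow_four S H h23, one_pow]
  have hrp : r ^ p = 1 := AutPOmega.sg_pow_char S p _ _
  have hco : p.Coprime E := by
    refine Nat.Coprime.mul_right ?_ ?_
    · by_cases h2 : p = 2
      · rw [if_pos h2, h2]; norm_num
      · rw [if_neg h2]
        refine (Nat.Coprime.pow_right 2 ((Nat.coprime_primes Fact.out Nat.prime_two).2 h2) :)
    · rw [Fintype.card_units]
      refine (Nat.Prime.coprime_iff_not_dvd Fact.out).2 fun hd => ?_
      obtain ⟨n, -, hn⟩ := FiniteField.card F p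
      have h1 : p ∣ Fintype.card F := by rw [hn]; exact dvd_pow_self p n.pos.ne'
      have h2 := Nat.dvd_sub h1 hd
      rw [Nat.sub_sub_self Fintype.card_pos] at h2
      exact (Fact.out : p.Prime).one_lt.ne' (Nat.dvd_one.1 h2)
  have hrz : Commute r (T * C) := by
    have hfix : ∀ x, x = ix 0 (Nat.zero_le k) ∨ x = ix 1 (le_trans (by omega) hk) → (T * C).1 (H.e x) =
        (if x = ix 0 (Nat.zero_le k) then (l : F) else (↑l⁻¹ : F)) • H.e x := by
      rintro x (rfl | rfl)
      · rw [om_mul_apply, mix_e, if_neg (ix_ne (by omega)), if_neg (ix_ne (by omega)), torus_e,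
          if_pos rfl, if_pos rfl]
      · rw [om_mul_apply, mix_e, if_neg (ix_ne (by omega)), if_neg (ix_ne (by omega)), torus_e,
          if_neg h01.symm, if_pos rfl, if_neg h01.symm]
    refine (show Commute (T * C) r from mul_inv_eq_iff_eq_mul.1 (Subtype.ext (LinearEquiv.ext fun x => ?_))).symm
    rw [root_conj S (rt_apply S (H.qe _) (H.ee _ _) (H.qe _) (1 : F)), rt_apply S _ _ (H.qe _),
      hfix _ (Or.inl rfl), hfix _ (Or.inr rfl), if_pos rfl, if_neg h01.symm]
    simp only [map_smul, smul_eq_mul]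
    match_scalars <;> field_simp
  refine ⟨r * (T * C), monoN S H (le_trans (by omega) hk), ?_⟩
  set M := Subgroup.closure ({r * (T * C), monoN S H (le_trans (by omega) hk)} : Set (Om (Q := Q)))
  have hN : monoN S H (le_trans (by omega) hk) ∈ M :=
    Subgroup.subset_closure (Set.mem_insert_of_mem _ rfl)
  obtain ⟨hr, hz⟩ := mem_of_coprime hrz hrp hzE hco
    (Subgroup.subset_closure (Set.mem_insert _ _) : r * (T * C) ∈ M)
  refine eq_top_of_three S H hk hN hz (monoN_act S H _) hl hr ?_ ?_ ?_ ?_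
    fun _ _ v hv => by rw [hperp v hv]; exact InU.zero S
  · rw [om_mul_apply, mix_e, if_neg (ix_ne (by omega)), if_neg (ix_ne (by omega)), torus_e, if_pos rfl]
  · rw [om_mul_apply, mix_f, if_neg (ix_ne (by omega)), if_neg (ix_ne (by omega)), torus_f, if_pos rfl]
  · rw [om_mul_apply, mix_e, if_neg (ix_ne (by omega)), if_neg (ix_ne (by omega)), torus_e,
      if_neg h01.symm, if_pos rfl]
  · rw [om_mul_apply, mix_e, if_pos rfl, torus_e, if_neg (ix_ne (by omega)),
      if_neg (ix_ne (by omega)), one_smul]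

end Cfsg.Agent.ClassTwoGen
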