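import Cfsg.Agent.Lib.AutPOmega.Root

/-!
# Elements of the derived orthogonal group attached to a hyperbolic system

Root elements, rotations, torus elements and cycles of a system of hyperbolic pairs, as explicit
elements of the derived orthogonal group with their action on the system.
-/

set_option autoImplicit false
set_option linter.unusedSectionVars false

namespace Cfsg.Agent.ClassTwoGen

open Cfsg.Agent Cfsg.Agent.TransvMax Cfsg.Agent.QMax
open Cfsg.Agent.OrthSimple (Om sg)

universe u

variable {ι : Type} [Fintype ι] [DecidableEq ι] {F : Type u} [Field F] [Finite F]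
  {Q : QuadraticForm F (ι → F)}

/-- Hyperbolic pairs, mutually orthogonal. -/
structure Hyp (Q : QuadraticForm F (ι → F)) (n : ℕ) where
  /-- First members. -/
  e : Fin n → ι → F
  /-- Second members. -/
  f : Fin n → ι → F
  qe : ∀ i, Q (e i) = 0
  qf : ∀ i, Q (f i) = 0
  ee : ∀ i j, pB Q (e i) (e j) = 0
  ff : ∀ i j, pB Q (f i) (f j) = 0
  ef : ∀ i j, pB Q (e i) (f j) = if i = j then 1 else 0

variable {n : ℕ} (S : QSetting Q) (H : Hyp Q n)

include S in
theorem Hyp.fe (i j : Fin n) : pB Q (H.f i) (H.e j) = if i = j then 1 else 0 := by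
  rw [S.pB_comm, H.ef]
  by_cases h : i = j
  · simp [h]
  · rw [if_neg h, if_neg (Ne.symm h)]

/-- Exchange the members of the pair `k`. -/
def Hyp.swap (S : QSetting Q) (k : Fin n) : Hyp Q n where
  e i := if i = k then H.f i else H.e i
  f i := if i = k then H.e i else H.f i
  qe i := by split_ifs <;> simp [H.qe, H.qf]
  qf i := by split_ifs <;> simp [H.qe, H.qf]
  ee i j := by
    split_ifs with h1 h2 <;> simp_all [H.ee, H.ff, H.ef, H.fe S, eq_comm]
  ff i j := by
    split_ifs with h1 h2 <;> simp_all [H.ee, H.ff, H.ef, H.fe S, eq_comm]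
  ef i j := by
    split_ifs with h1 h2 <;> simp_all [H.ee, H.ff, H.ef, H.fe S, eq_comm]

/-- Orthogonal to all pairs. -/
def Hyp.Perp (v : ι → F) : Prop := ∀ i, pB Q v (H.e i) = 0 ∧ pB Q v (H.f i) = 0

theorem om_mul_apply (g h : Om (Q := Q)) (x : ι → F) : (g * h).1 x = g.1 (h.1 x) := rfl

theorem om_one_apply (x : ι → F) : (1 : Om (Q := Q)).1 x = x := rfl

include S

theorem Hyp.decomp (v : ι → F) :
    H.Perp (v - ∑ i, (pB Q v (H.f i) • H.e i + pB Q v (H.e i) • H.f i)) := by
  intro k
  constructor <;>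
    simp [map_sum, LinearMap.sum_apply, map_add, H.ee, H.ef, H.ff, H.fe S, Finset.sum_add_distrib]

theorem Hyp.lin_ext {M : Type u} [AddCommGroup M] [Module F M] {g h : (ι → F) →ₗ[F] M}
    (he : ∀ i, g (H.e i) = h (H.e i)) (hf : ∀ i, g (H.f i) = h (H.f i))
    (hp : ∀ v, H.Perp v → g v = h v) : g = h := by
  refine LinearMap.ext fun v => ?_
  have h1 := hp _ (H.decomp S v)
  simp only [map_sub, map_sum, map_add, map_smul, he, hf] at h1
  exact sub_left_injective h1

theorem Hyp.om_ext {g h : Om (Q := Q)} (he : ∀ i, g.1 (H.e i) = h.1 (H.e i))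
    (hf : ∀ i, g.1 (H.f i) = h.1 (H.f i)) (hp : ∀ v, H.Perp v → g.1 v = h.1 v) : g = h :=
  Subtype.ext (LinearEquiv.ext fun v =>
    LinearMap.congr_fun (H.lin_ext S (g := (g.1 : (ι → F) →ₗ[F] ι → F))
      (h := (h.1 : (ι → F) →ₗ[F] ι → F)) he hf hp) v)

/-! ### Root elements -/

/-- The root element `x ↦ x + c (B(x,u) w - B(x,w) u)`. -/
noncomputable def rt (u w : ι → F) (hu : Q u = 0) (hw : pB Q w u = 0) (c : F) : Om (Q := Q) :=
  sg S u (c • w) hu (by rw [map_smul, LinearMap.smul_apply, hw, smul_zero])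

theorem rt_apply {u w : ι → F} (hu : Q u = 0) (hw : pB Q w u = 0) (hq : Q w = 0) (c : F)
    (x : ι → F) : (rt S u w hu hw c).1 x = x + c • (pB Q x u • w - pB Q x w • u) := by
  rw [rt, AutPOmega.sg_apply_root S _ _ (by rw [S.quad_smul, hq, mul_zero]), AutPOmega.om_apply,
    map_smul, smul_eq_mul]
  module

/-- `e_i ↦ e_i + c e_j`, `f_j ↦ f_j - c f_i`. -/
noncomputable def shearE {i j : Fin n} (hij : i ≠ j) (c : F) : Om (Q := Q) :=
  rt S (H.f i) (H.e j) (H.qf i) (by rw [H.ef, if_neg hij.symm]) c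

theorem shearE_apply {i j : Fin n} (hij : i ≠ j) (c : F) (x : ι → F) :
    (shearE S H hij c).1 x = x + c • (pB Q x (H.f i) • H.e j - pB Q x (H.e j) • H.f i) := by
  rw [shearE, rt_apply S _ _ (H.qe j)]

theorem shearE_e {i j : Fin n} (hij : i ≠ j) (c : F) (k : Fin n) :
    (shearE S H hij c).1 (H.e k) = H.e k + (if k = i then c else 0) • H.e j := by
  rw [shearE_apply, H.ef, H.ee]
  by_cases h : k = i <;> simp [h]

theorem shearE_f {i j : Fin n} (hij : i ≠ j) (c : F) (k : Fin n) :
    (shearE S H hij c).1 (H.f k) = H.f k - (if k = j then c else 0) • H.f i := by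
  rw [shearE_apply, H.fe S, H.ff]
  by_cases h : k = j <;> simp [h, sub_eq_add_neg]

theorem shearE_perp {i j : Fin n} (hij : i ≠ j) (c : F) {v : ι → F} (hv : H.Perp v) :
    (shearE S H hij c).1 v = v := by
  rw [shearE_apply, (hv i).2, (hv j).1]
  simp

/-! ### Rotations and torus elements -/

/-- The Weyl element `e_i ↦ l e_j`, `e_j ↦ -l⁻¹ e_i`. -/
noncomputable def weyl {i j : Fin n} (hij : i ≠ j) (l : Fˣ) : Om (Q := Q) :=
  shearE S H hij l * shearE S H hij.symm (-(↑l⁻¹ : F)) * shearE S H hij l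

theorem weyl_e {i j : Fin n} (hij : i ≠ j) (l : Fˣ) (k : Fin n) :
    (weyl S H hij l).1 (H.e k) =
      if k = i then (l : F) • H.e j else if k = j then -(↑l⁻¹ : F) • H.e i else H.e k := by
  simp only [weyl, om_mul_apply, shearE_e, map_add, map_smul]
  by_cases h1 : k = i
  · subst h1
    simp only [if_true, if_neg hij, if_neg hij.symm, zero_smul, add_zero, smul_add, smul_smul]
    rw [mul_neg, Units.mul_inv, neg_one_smul]
    match_scalars <;> simp
  by_cases h2 : k = j
  · subst h2
    simp only [if_true, if_neg h1, if_neg hij, zero_smul, add_zero, smul_add, smul_smul]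
    rw [neg_mul, Units.inv_mul, neg_one_smul]
    match_scalars <;> simp
  simp [h1, h2]

theorem weyl_f {i j : Fin n} (hij : i ≠ j) (l : Fˣ) (k : Fin n) :
    (weyl S H hij l).1 (H.f k) =
      if k = i then (↑l⁻¹ : F) • H.f j else if k = j then -(l : F) • H.f i else H.f k := by
  simp only [weyl, om_mul_apply, shearE_f, map_sub, map_smul]
  by_cases h1 : k = i
  · subst h1
    simp only [if_true, if_neg hij, if_neg hij.symm, zero_smul, sub_zero, smul_sub, smul_smul]
    rw [neg_mul, Units.inv_mul, neg_one_smul]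
    match_scalars <;> simp
  by_cases h2 : k = j
  · subst h2
    simp only [if_true, if_neg h1, if_neg hij, zero_smul, sub_zero, smul_sub, smul_smul]
    rw [mul_neg, Units.mul_inv, neg_one_smul]
    match_scalars <;> simp
  simp [h1, h2]

theorem weyl_perp {i j : Fin n} (hij : i ≠ j) (l : Fˣ) {v : ι → F} (hv : H.Perp v) :
    (weyl S H hij l).1 v = v := by
  simp only [weyl, om_mul_apply, shearE_perp S H _ _ hv]

/-- The torus element `e_i ↦ l e_i`, `e_j ↦ l⁻¹ e_j`. -/
noncomputable def torus {i j : Fin n} (hij : i ≠ j) (l : Fˣ) : Om (Q := Q) :=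
  weyl S H hij (-l⁻¹) * weyl S H hij 1

theorem torus_e {i j : Fin n} (hij : i ≠ j) (l : Fˣ) (k : Fin n) :
    (torus S H hij l).1 (H.e k) =
      (if k = i then (l : F) else if k = j then (↑l⁻¹ : F) else 1) • H.e k := by
  rw [torus, om_mul_apply, weyl_e]
  by_cases h1 : k = i
  · subst h1
    simp [weyl_e, hij.symm, inv_neg]
  by_cases h2 : k = j
  · subst h2
    simp [h1, weyl_e, hij, inv_neg]
  simp [h1, h2, weyl_e]

theorem torus_f {i j : Fin n} (hij : i ≠ j) (l : Fˣ) (k : Fin n) :
    (torus S H hij l).1 (H.f k) =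
      (if k = i then (↑l⁻¹ : F) else if k = j then (l : F) else 1) • H.f k := by
  rw [torus, om_mul_apply, weyl_f]
  by_cases h1 : k = i
  · subst h1
    simp [weyl_f, hij.symm, inv_neg]
  by_cases h2 : k = j
  · subst h2
    simp [h1, weyl_f, hij, inv_neg]
  simp [h1, h2, weyl_f]

theorem torus_perp {i j : Fin n} (hij : i ≠ j) (l : Fˣ) {v : ι → F} (hv : H.Perp v) :
    (torus S H hij l).1 v = v := by
  simp only [torus, om_mul_apply, weyl_perp S H _ _ hv]

/-- The torus as a homomorphism. -/
noncomputable def torusHom {i j : Fin n} (hij : i ≠ j) : Fˣ →* Om (Q := Q) where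
  toFun := torus S H hij
  map_one' := H.om_ext S (fun k => by simp [torus_e, om_one_apply])
    (fun k => by simp [torus_f, om_one_apply])
    (fun v hv => by rw [torus_perp S H _ _ hv, om_one_apply])
  map_mul' a b := H.om_ext S
    (fun k => by
      rw [om_mul_apply, torus_e, torus_e, map_smul, torus_e, smul_smul]
      split_ifs <;> simp [mul_comm])
    (fun k => by
      rw [om_mul_apply, torus_f, torus_f, map_smul, torus_f, smul_smul]
      split_ifs <;> simp [mul_comm])
    (fun v hv => by simp only [om_mul_apply, torus_perp S H _ _ hv])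

/-- An element of order prime to the characteristic mixing `e_i` and `e_j`:
`e_i ↦ e_j`, `e_j ↦ -e_i + t e_j`. -/
noncomputable def mix {i j : Fin n} (hij : i ≠ j) (t : F) : Om (Q := Q) :=
  shearE S H hij (-t) * weyl S H hij 1

theorem mix_e {i j : Fin n} (hij : i ≠ j) (t : F) (k : Fin n) :
    (mix S H hij t).1 (H.e k) =
      if k = i then H.e j else if k = j then -H.e i + t • H.e j else H.e k := by
  rw [mix, om_mul_apply, weyl_e]
  by_cases h1 : k = i
  · subst h1
    simp [shearE_e, hij.symm]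
  by_cases h2 : k = j
  · subst h2
    simp [h1, shearE_e, add_comm]
  simp [h1, h2, shearE_e]

theorem mix_f {i j : Fin n} (hij : i ≠ j) (t : F) (k : Fin n) :
    (mix S H hij t).1 (H.f k) =
      if k = i then H.f j + t • H.f i else if k = j then -H.f i else H.f k := by
  rw [mix, om_mul_apply, weyl_f]
  by_cases h1 : k = i
  · subst h1
    simp [shearE_f]
  by_cases h2 : k = j
  · subst h2
    simp [h1, shearE_f, hij]
  simp [h1, h2, shearE_f]

theorem mix_perp {i j : Fin n} (hij : i ≠ j) (t : F) {v : ι → F} (hv : H.Perp v) :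
    (mix S H hij t).1 v = v := by
  simp only [mix, om_mul_apply, weyl_perp S H _ _ hv, shearE_perp S H _ _ hv]

theorem mix_pow_four {i j : Fin n} (hij : i ≠ j) : mix S H hij (0 : F) ^ 4 = 1 := by
  refine H.om_ext S (fun k => ?_) (fun k => ?_) (fun v hv => ?_)
  · simp only [pow_succ, pow_zero, one_mul, om_mul_apply, om_one_apply, mix_e]
    by_cases h1 : k = i <;> by_cases h2 : k = j <;>
      simp [h1, h2, mix_e, hij, hij.symm, zero_smul]
  · simp only [pow_succ, pow_zero, one_mul, om_mul_apply, om_one_apply, mix_f]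
    by_cases h1 : k = i <;> by_cases h2 : k = j <;>
      simp [h1, h2, mix_f, hij, hij.symm, zero_smul]
  · simp only [pow_succ, pow_zero, one_mul, om_mul_apply, om_one_apply, mix_perp S H _ _ hv]

theorem mix_pow_three (h2' : (2 : F) = 0) {i j : Fin n} (hij : i ≠ j) :
    mix S H hij (1 : F) ^ 3 = 1 := by
  have hneg : ∀ v : ι → F, -v = v := fun v => by
    rw [neg_eq_iff_add_eq_zero, ← two_smul F v, h2', zero_smul]
  have hd1 : ∀ v w : ι → F, v + (w + v) = w := fun v w => by
    rw [show v + (w + v) = w + (v + -(-v)) by abel, neg_neg]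
    nth_rw 2 [← hneg v]
    rw [add_neg_cancel, add_zero]
  have hd2 : ∀ v w : ι → F, v + w + (w + (v + w)) = w := fun v w => by
    rw [show v + w + (w + (v + w)) = (v + (w + v)) + (w + w) by abel, hd1]
    nth_rw 3 [← hneg w]
    rw [add_neg_cancel, add_zero]
  refine H.om_ext S (fun k => ?_) (fun k => ?_) (fun v hv => ?_)
  · simp only [pow_succ, pow_zero, one_mul, om_mul_apply, om_one_apply, mix_e]
    by_cases h1 : k = i
    · subst h1; simp [mix_e, hij.symm, hneg, hd1]
    by_cases h2 : k = j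
    · subst h2; simp [mix_e, h1, hij, hij.symm, hneg, hd2]
    simp [h1, h2, mix_e]
  · simp only [pow_succ, pow_zero, one_mul, om_mul_apply, om_one_apply, mix_f]
    by_cases h1 : k = i
    · subst h1; simp [mix_f, hij.symm, hneg, hd2]
    by_cases h2 : k = j
    · subst h2; simp [mix_f, h1, hij, hij.symm, hneg, hd1]
    simp [h1, h2, mix_f]
  · simp only [pow_succ, pow_zero, one_mul, om_mul_apply, om_one_apply, mix_perp S H _ _ hv]

/-- Maps with disjoint supports among the pairs commute. -/
theorem torus_mix_comm {i j a b : Fin n} (hij : i ≠ j) (hab : a ≠ b) (ha : a ≠ i ∧ a ≠ j)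
    (hb : b ≠ i ∧ b ≠ j) (l : Fˣ) (t : F) :
    Commute (torus S H hij l) (mix S H hab t) := by
  refine H.om_ext S (fun k => ?_) (fun k => ?_) (fun v hv => ?_)
  · simp only [om_mul_apply, torus_e, mix_e, map_smul]
    by_cases h1 : k = a
    · subst h1; simp [torus_e, ha.1, ha.2, hb.1, hb.2]
    by_cases h2 : k = b
    · subst h2; simp [torus_e, h1, ha.1, ha.2, hb.1, hb.2]
    simp [h1, h2, torus_e]
  · simp only [om_mul_apply, torus_f, mix_f, map_smul]
    by_cases h1 : k = a
    · subst h1; simp [torus_f, ha.1, ha.2, hb.1, hb.2]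
    by_cases h2 : k = b
    · subst h2; simp [torus_f, h1, ha.1, ha.2, hb.1, hb.2]
    simp [h1, h2, torus_f]
  · simp only [om_mul_apply, torus_perp S H _ _ hv, mix_perp S H _ _ hv]

end Cfsg.Agent.ClassTwoGen
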