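import Cfsg.Agent.Lib.ClassTwoGen.OmGen
import Cfsg.Agent.Lib.AutPOmega.Main

/-!
# From two generators of the derived orthogonal group to two generators of `PΩ`
-/

set_option autoImplicit false

namespace Cfsg.Agent.ClassTwoGen

open Cfsg.Agent Cfsg.Agent.TransvMax Cfsg.Agent.QMax
open Cfsg.Agent.OrthSimple (Om)

universe u

variable {ι : Type} [Fintype ι] [DecidableEq ι] {F : Type u} [Field F]
  {Q : QuadraticForm F (ι → F)}

theorem exists_two_gen_POmega {f : (ι → F) → F} (hf : ⇑Q = f)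
    (h : ∃ a b : Om (Q := Q), Subgroup.closure ({a, b} : Set (Om (Q := Q))) = ⊤) :
    ∃ a b : Cfsg.POmega F f, Subgroup.closure ({a, b} : Set (Cfsg.POmega F f)) = ⊤ := by
  subst hf
  obtain ⟨a, b, hab⟩ := h
  obtain ⟨e⟩ := OrthSimple.exists_equiv_Omega (Q := Q)
  let φ : Om (Q := Q) →* Cfsg.POmega F ⇑Q :=
    (QuotientGroup.mk' (Subgroup.center (Cfsg.Omega F ⇑Q))).comp e.symm.toMonoidHom
  have hφ : Function.Surjective φ := (QuotientGroup.mk'_surjective _).comp e.symm.surjective
  refine ⟨φ a, φ b, ?_⟩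
  have h := congrArg (Subgroup.map φ) hab
  rwa [MonoidHom.map_closure, Set.image_pair, Subgroup.map_top_of_surjective φ hφ] at h

end Cfsg.Agent.ClassTwoGen
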