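import Cfsg.Agent.Lib.ClassTwoGen.OmHyp

/-!
# Subgroups of the derived orthogonal group containing enough root groups
-/

set_option autoImplicit false
set_option linter.unusedSectionVars false

namespace Cfsg.Agent.ClassTwoGen

open Cfsg.Agent Cfsg.Agent.TransvMax Cfsg.Agent.QMax
open Cfsg.Agent.OrthSimple (Om sg mem_oGroup_of_mem_Om closure_sg siegel_trivial common_nonperp)

universe u

variable {ι : Type} [Fintype ι] [DecidableEq ι] {F : Type u} [Field F] [Finite F]
  {Q : QuadraticForm F (ι → F)}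

/-- All root elements of the line spanned by `u` and `w` are in `M`. -/
def InR (M : Subgroup (Om (Q := Q))) (u w : ι → F) : Prop :=
  ∀ c : F, ∃ g ∈ M, ∀ x, g.1 x = x + c • (pB Q x u • w - pB Q x w • u)

variable {M : Subgroup (Om (Q := Q))}

theorem InR.symm {u w : ι → F} (h : InR M u w) : InR M w u := fun c => by
  obtain ⟨g, hg, e⟩ := h (-c)
  exact ⟨g, hg, fun x => by rw [e]; module⟩

theorem InR.smul_left {u w : ι → F} (h : InR M u w) (a : F) : InR M (a • u) w := fun c => by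
  obtain ⟨g, hg, e⟩ := h (c * a)
  exact ⟨g, hg, fun x => by rw [e, map_smul]; module⟩

theorem InR.smul_right {u w : ι → F} (h : InR M u w) (a : F) : InR M u (a • w) :=
  (h.symm.smul_left a).symm

theorem InR.of_smul {u w : ι → F} {a b : F} (ha : a ≠ 0) (hb : b ≠ 0)
    (h : InR M (a • u) (b • w)) : InR M u w := by
  have h' := (h.smul_left a⁻¹).smul_right b⁻¹
  rwa [smul_smul, inv_mul_cancel₀ ha, one_smul, smul_smul, inv_mul_cancel₀ hb, one_smul] at h'

/-- Conjugating a root element. -/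
theorem root_conj {g r : Om (Q := Q)} {u w : ι → F} {c : F}
    (S : QSetting Q) (hr : ∀ x, r.1 x = x + c • (pB Q x u • w - pB Q x w • u)) (x : ι → F) :
    (g * r * g⁻¹).1 x =
      x + c • (pB Q x (g.1 u) • g.1 w - pB Q x (g.1 w) • g.1 u) := by
  obtain ⟨y, rfl⟩ := g.1.surjective x
  show g.1 (r.1 (g.1.symm (g.1 y))) = _
  rw [LinearEquiv.symm_apply_apply, hr, map_add, map_smul, map_sub, map_smul, map_smul,
    AutPOmega.pB_oGroup S, AutPOmega.pB_oGroup S]

variable (S : QSetting Q)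

include S

theorem InR.map {u w : ι → F} (h : InR M u w) {g : Om (Q := Q)} (hg : g ∈ M) :
    InR M (g.1 u) (g.1 w) := fun c => by
  obtain ⟨r, hr, e⟩ := h c
  exact ⟨g * r * g⁻¹, M.mul_mem (M.mul_mem hg hr) (M.inv_mem hg), root_conj S e⟩

theorem InR.map_inv {u w : ι → F} {g : Om (Q := Q)} (hg : g ∈ M)
    (h : InR M (g.1 u) (g.1 w)) : InR M u w := by
  have h' := InR.map S h (M.inv_mem hg)
  have e : ∀ x, (g⁻¹ : Om (Q := Q)).1 (g.1 x) = x := fun x => g.1.symm_apply_apply x
  rwa [e, e] at h'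

/-- Every Siegel element at `u` lies in `M`. -/
def InW (M : Subgroup (Om (Q := Q))) (u : ι → F) : Prop :=
  ∃ hu : Q u = 0, ∀ (w : ι → F) (hw : pB Q w u = 0), sg S u w hu hw ∈ M

theorem InW.map {u : ι → F} (h : InW S M u) {g : Om (Q := Q)} (hg : g ∈ M) :
    InW S M (g.1 u) := by
  obtain ⟨hu, h⟩ := h
  have hgo := mem_oGroup_of_mem_Om g.2
  refine ⟨(hgo u).trans hu, fun w hw => ?_⟩
  obtain ⟨y, rfl⟩ := g.1.surjective w
  have hy : pB Q y u = 0 := by rwa [AutPOmega.pB_oGroup S] at hw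
  have h1 : g * sg S u y hu hy * g⁻¹ = sg S (g.1 u) (g.1 y) ((hgo u).trans hu) hw :=
    Subtype.ext (S.siegel_conj hgo hu hy)
  rw [← h1]
  exact M.mul_mem (M.mul_mem hg (h y hy)) (M.inv_mem hg)

theorem InW.smul {u : ι → F} (h : InW S M u) (a : F) : InW S M (a • u) := by
  obtain ⟨hu, h⟩ := h
  have hau : Q (a • u) = 0 := by rw [S.quad_smul, hu, mul_zero]
  refine ⟨hau, fun w hw => ?_⟩
  by_cases ha : a = 0
  · have h1 : sg S (a • u) w hau hw = 1 := Subtype.ext (LinearEquiv.ext fun x => by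
      show S.siegel (a • u) w hau hw x = x
      rw [S.siegel_apply, ha, zero_smul, siegelHom_apply]
      simp)
    rw [h1]; exact M.one_mem
  have hwu : pB Q w u = 0 := by
    rw [map_smul, smul_eq_mul] at hw
    exact (mul_eq_zero.1 hw).resolve_left ha
  have hawu : pB Q (a • w) u = 0 := by rw [map_smul, LinearMap.smul_apply, hwu, smul_zero]
  have e : sg S (a • u) w hau hw = sg S u (a • w) hu hawu :=
    Subtype.ext (S.siegel_smul a hu hau hw hawu)
  rw [e]
  exact h _ _

/-- From one good vector, all singular vectors not orthogonal to it. -/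
theorem InW.of_nonperp {u x y : ι → F} (hu : InW S M u) (hx : InW S M x) (hxu : pB Q x u ≠ 0)
    (hy : Q y = 0) (hyu : pB Q y u ≠ 0) : InW S M y := by
  obtain ⟨hu0, hu⟩ := hu
  set x' := (pB Q x u)⁻¹ • x with hx'
  set y' := (pB Q y u)⁻¹ • y with hy'
  have h1 : pB Q x' u = 1 := by
    rw [hx', map_smul, LinearMap.smul_apply, smul_eq_mul, inv_mul_cancel₀ hxu]
  have h2 : pB Q y' u = 1 := by
    rw [hy', map_smul, LinearMap.smul_apply, smul_eq_mul, inv_mul_cancel₀ hyu]
  have hQ : Q x' = Q y' := by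
    rw [hx', hy', S.quad_smul, S.quad_smul, hy, hx.1, mul_zero, mul_zero]
  have hw : pB Q (y' - x') u = 0 := by rw [map_sub, LinearMap.sub_apply, h1, h2, sub_self]
  have h := (InW.smul S hx (pB Q x u)⁻¹).map S (hu _ hw)
  have e : (sg S u (y' - x') hu0 hw).1 x' = y' := S.siegel_map hu0 h1 hQ hw
  rw [← hx', e, hy'] at h
  have h' := InW.smul S h (pB Q y u)
  rwa [smul_smul, mul_inv_cancel₀ hyu, one_smul] at h'

/-- One good vector moved off its orthogonal space forces everything. -/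
theorem eq_top_of_inW {u : ι → F} (hu : InW S M u) {g : Om (Q := Q)} (hg : g ∈ M)
    (hgu : pB Q (g.1 u) u ≠ 0) : M = ⊤ := by
  have hgW := hu.map S hg
  have hu0 : u ≠ 0 := fun e => hgu (by rw [e, map_zero])
  have hne : ∀ y, Q y = 0 → pB Q y u ≠ 0 → InW S M y := fun y hy hyu =>
    InW.of_nonperp S hu hgW hgu hy hyu
  rw [eq_top_iff, ← closure_sg S, Subgroup.closure_le]
  rintro _ ⟨y, w, hy, hw, hy0, rfl⟩
  obtain ⟨z, hz, hzu, hzy⟩ := common_nonperp S (Q := Q) hu0 hy0
  have hzW := hne z hz hzu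
  have hW : InW S M y := InW.of_nonperp S hzW hu (by rw [S.pB_comm]; exact hzu) hy
    (by rw [S.pB_comm]; exact hzy)
  exact hW.2 w hw

/-- `M` contains the Siegel elements at `u` of all multiples of `w`. -/
def InU (M : Subgroup (Om (Q := Q))) (u : ι → F) (hu : Q u = 0) (w : ι → F) : Prop :=
  ∃ hw : pB Q w u = 0, ∀ c : F,
    sg S u (c • w) hu (by rw [map_smul, LinearMap.smul_apply, hw, smul_zero]) ∈ M

variable {u : ι → F} {hu : Q u = 0}

theorem sg_congr {w w' : ι → F} {hw : pB Q w u = 0} {hw' : pB Q w' u = 0} (e : w = w') :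
    sg S u w hu hw = sg S u w' hu hw' := by subst e; rfl

theorem InU.of_inR {w : ι → F} (hq : Q w = 0) (hw : pB Q w u = 0) (h : InR M u w) :
    InU S M u hu w := ⟨hw, fun c => by
  obtain ⟨g, hg, e⟩ := h c
  convert hg using 1
  refine Subtype.ext (LinearEquiv.ext fun x => ?_)
  rw [e, AutPOmega.sg_apply_root S _ _ (by rw [S.quad_smul, hq, mul_zero]), AutPOmega.om_apply,
    map_smul, smul_eq_mul]
  module⟩

theorem InU.add {w w' : ι → F} (h : InU S M u hu w) (h' : InU S M u hu w') :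
    InU S M u hu (w + w') := by
  obtain ⟨hw, h⟩ := h
  obtain ⟨hw', h'⟩ := h'
  refine ⟨by rw [map_add, LinearMap.add_apply, hw, hw', add_zero], fun c => ?_⟩
  convert M.mul_mem (h c) (h' c) using 1
  refine Subtype.ext (LinearEquiv.ext fun x => ?_)
  show siegelHom Q u (c • (w + w')) x = siegelHom Q u (c • w) (siegelHom Q u (c • w') x)
  rw [S.siegelHom_siegelHom hu (by rw [map_smul, LinearMap.smul_apply, hw, smul_zero])
    (by rw [map_smul, LinearMap.smul_apply, hw', smul_zero]), smul_add]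

theorem InU.smul {w : ι → F} (h : InU S M u hu w) (a : F) : InU S M u hu (a • w) := by
  obtain ⟨hw, h⟩ := h
  refine ⟨by rw [map_smul, LinearMap.smul_apply, hw, smul_zero], fun c => ?_⟩
  convert h (c * a) using 1
  exact sg_congr S (smul_smul _ _ _)

theorem InU.zero : InU S M u hu 0 := ⟨by rw [map_zero, LinearMap.zero_apply], fun c => by
  convert M.one_mem using 1
  refine Subtype.ext (LinearEquiv.ext fun x => ?_)
  show siegelHom Q u (c • 0) x = x
  rw [smul_zero, S.siegelHom_zero]⟩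

theorem InU.self : InU S M u hu u := ⟨by rw [S.pB_self, hu, mul_zero], fun c => by
  convert M.one_mem using 1
  refine Subtype.ext ?_
  exact siegel_trivial S hu (by rw [map_smul, LinearMap.smul_apply, S.pB_self, hu, mul_zero, smul_zero])
    (Submodule.smul_mem _ c (Submodule.mem_span_singleton_self u))⟩

theorem InU.map {w : ι → F} (h : InU S M u hu w) {g : Om (Q := Q)} (hg : g ∈ M)
    (hgu : g.1 u = u) : InU S M u hu (g.1 w) := by
  obtain ⟨hw, h⟩ := h
  refine ⟨by rw [← hgu, AutPOmega.pB_oGroup S, hw], fun c => ?_⟩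
  convert M.mul_mem (M.mul_mem hg (h c)) (M.inv_mem hg) using 1
  refine Subtype.ext (LinearEquiv.ext fun x => ?_)
  have h1 := LinearEquiv.congr_fun (S.siegel_conj (mem_oGroup_of_mem_Om g.2) hu (w := c • w)
    (by rw [map_smul, LinearMap.smul_apply, hw, smul_zero])) x
  refine Eq.trans ?_ h1.symm
  show siegelHom Q u (c • g.1 w) x = siegelHom Q (g.1 u) (g.1 (c • w)) x
  rw [hgu, map_smul]

theorem InU.sum {κ : Type*} (s : Finset κ) {w : κ → ι → F} (h : ∀ i ∈ s, InU S M u hu (w i)) :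
    InU S M u hu (∑ i ∈ s, w i) := by
  induction s using Finset.cons_induction with
  | empty => exact InU.zero S
  | cons a s ha ih =>
    rw [Finset.sum_cons]
    exact (h a (Finset.mem_cons_self a s)).add S
      (ih fun i hi => h i (Finset.mem_cons_of_mem hi))

theorem inW_of_inU (h : ∀ w : ι → F, pB Q w u = 0 → InU S M u hu w) : InW S M u :=
  ⟨hu, fun w hw => by
    convert (h w hw).2 1 using 1
    exact sg_congr S (one_smul _ _).symm⟩

/-- The system criterion. -/
theorem Hyp.eq_top {n : ℕ} (H : Hyp Q n) (i₀ i₁ : Fin n) (hne : i₀ ≠ i₁)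
    (he : ∀ i, i ≠ i₀ → InR M (H.f i₀) (H.e i))
    (hf : ∀ i, i ≠ i₀ → InR M (H.f i₀) (H.f i))
    (h0 : InR M (H.e i₀) (H.e i₁))
    (hp : ∀ v, H.Perp v → InU S M (H.e i₁) (H.qe i₁) v)
    (hg : ∃ g ∈ M, pB Q (g.1 (H.e i₁)) (H.e i₁) ≠ 0) : M = ⊤ := by
  obtain ⟨g, hgM, hgu⟩ := hg
  refine eq_top_of_inW S (inW_of_inU S (hu := H.qe i₁) fun w hw => ?_) hgM hgu
  have hu1 := H.qe i₁
  have E0 : InU S M (H.e i₁) hu1 (H.e i₀) := InU.of_inR S (H.qe _) (H.ee _ _) h0.symm
  have F0 : InU S M (H.e i₁) hu1 (H.f i₀) :=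
    InU.of_inR S (H.qf _) (by rw [H.fe S, if_neg hne]) (he i₁ hne.symm).symm
  -- transport `e i₀` by the root elements at `f i₀`
  have key : ∀ w, Q w = 0 → InR M (H.f i₀) w → pB Q (H.e i₁) w = 0 → pB Q (H.e i₀) w = 0 →
      InU S M (H.e i₁) hu1 w := by
    intro w _ hR h1 h2
    obtain ⟨r, hr, e⟩ := hR 1
    have hfix : r.1 (H.e i₁) = H.e i₁ := by
      rw [e, h1, H.ef, if_neg hne.symm]; simp
    have h := E0.map S hr hfix
    rw [e, h2, H.ef, if_pos rfl, one_smul, one_smul, zero_smul, sub_zero] at h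
    have h' := h.add S (E0.smul S (-1))
    rwa [neg_one_smul, add_neg_cancel_comm] at h'
  have hE : ∀ i, InU S M (H.e i₁) hu1 (H.e i) := fun i => by
    by_cases h : i = i₀
    · exact h ▸ E0
    exact key _ (H.qe i) (he i h) (H.ee _ _) (H.ee _ _)
  have hF : ∀ i, i ≠ i₁ → InU S M (H.e i₁) hu1 (H.f i) := fun i h1 => by
    by_cases h : i = i₀
    · exact h ▸ F0
    exact key _ (H.qf i) (hf i h) (by rw [H.ef, if_neg (Ne.symm h1)])
      (by rw [H.ef, if_neg (Ne.symm h)])
  have hsum := (hp _ (H.decomp S w)).add S (InU.sum S Finset.univ (w := fun i =>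
    pB Q w (H.f i) • H.e i + pB Q w (H.e i) • H.f i) fun i _ => ?_)
  · rwa [sub_add_cancel] at hsum
  by_cases h : i = i₁
  · subst h
    rw [hw, zero_smul, add_zero]
    exact (hE i).smul S _
  · exact ((hE i).smul S _).add S ((hF i h).smul S _)

end Cfsg.Agent.ClassTwoGen
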