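import Cfsg.Agent.Lib.Forms.UnitaryFin

/-!
# Elements of `SU_n` from linear maps; root elements at an isotropic point
-/

set_option autoImplicit false
set_option linter.unusedSectionVars false

namespace Cfsg.Agent.ClassTwoGen.SUGen

open Matrix Cfsg.Agent

universe u

variable {F : Type u} [Field F] [Fintype F] {n q : ℕ}

/-- The involution of the form. -/
structure UD (F : Type u) [Field F] (q : ℕ) where
  /-- The field automorphism `x ↦ x ^ q`. -/
  σ : F →+* F
  pow : ∀ x, σ x = x ^ q
  inv : ∀ x, σ (σ x) = x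

variable (U : UD F q)

/-- The hermitian product, linear in `y`. -/
noncomputable def pr (y u : Fin n → F) : F := FormsLib.hermB n U.σ u y

theorem pr_eq (y u : Fin n → F) : pr U y u = Cfsg.hermForm n F q y u :=
  FormsLib.hermB_apply U.pow u y

theorem pr_add_left (y y' u : Fin n → F) : pr U (y + y') u = pr U y u + pr U y' u := map_add _ _ _

theorem pr_smul_left (a : F) (y u : Fin n → F) : pr U (a • y) u = a * pr U y u := map_smul _ _ _

theorem pr_add_right (y u u' : Fin n → F) : pr U y (u + u') = pr U y u + pr U y u' := by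
  simp [pr, map_add]

theorem pr_smul_right (a : F) (y u : Fin n → F) : pr U y (a • u) = U.σ a * pr U y u := by
  simp [pr]

theorem pr_zero_left (u : Fin n → F) : pr U 0 u = 0 := map_zero _

theorem pr_zero_right (y : Fin n → F) : pr U y 0 = 0 := by simp [pr]

theorem pr_neg_left (y u : Fin n → F) : pr U (-y) u = -pr U y u := map_neg _ _

theorem pr_neg_right (y u : Fin n → F) : pr U y (-u) = -pr U y u := by simp [pr]

theorem pr_sub_left (y y' u : Fin n → F) : pr U (y - y') u = pr U y u - pr U y' u := map_sub _ _ _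

theorem pr_sub_right (y u u' : Fin n → F) : pr U y (u - u') = pr U y u - pr U y u' := by
  simp [pr, map_sub]

theorem pr_swap (y u : Fin n → F) : pr U y u = U.σ (pr U u y) := by
  simp [pr, FormsLib.hermB, map_sum, map_mul, U.inv, mul_comm]

theorem pr_eq_zero_comm (y u : Fin n → F) : pr U y u = 0 ↔ pr U u y = 0 := by
  rw [pr_swap]
  exact map_eq_zero U.σ

theorem eq_zero_of_pr {y : Fin n → F} (h : ∀ u, pr U y u = 0) : y = 0 := by
  classical
  funext i
  simpa [pr, FormsLib.hermB, Pi.single_apply] using h (Pi.single i 1)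

theorem eq_of_pr {y y' : Fin n → F} (h : ∀ u, pr U y u = pr U y' u) : y = y' :=
  sub_eq_zero.1 (eq_zero_of_pr U fun u => by rw [pr_sub_left, h, sub_self])

theorem exists_pr_one {u : Fin n → F} (hu : u ≠ 0) : ∃ y, pr U y u = 1 := by
  obtain ⟨y, hy⟩ : ∃ y, pr U y u ≠ 0 := by
    by_contra h
    push Not at h
    exact hu (eq_zero_of_pr U fun y => (pr_eq_zero_comm U u y).2 (h y))
  exact ⟨(pr U y u)⁻¹ • y, by rw [pr_smul_left, inv_mul_cancel₀ hy]⟩

/-- The action of an element on vectors. -/
abbrev ap (g : Cfsg.SU n F q) (y : Fin n → F) : Fin n → F :=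
  ((g : Matrix.SpecialLinearGroup (Fin n) F) : Matrix (Fin n) (Fin n) F) *ᵥ y

theorem ap_mul (g h : Cfsg.SU n F q) (y : Fin n → F) : ap (g * h) y = ap g (ap h y) := by
  rw [ap, ap, ap, Matrix.mulVec_mulVec]
  rfl

theorem ap_one (y : Fin n → F) : ap (1 : Cfsg.SU n F q) y = y := Matrix.one_mulVec y

theorem ap_inv_ap (g : Cfsg.SU n F q) (y : Fin n → F) : ap g⁻¹ (ap g y) = y := by
  rw [← ap_mul, inv_mul_cancel, ap_one]

theorem ap_ap_inv (g : Cfsg.SU n F q) (y : Fin n → F) : ap g (ap g⁻¹ y) = y := by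
  rw [← ap_mul, mul_inv_cancel, ap_one]

theorem ap_surjective (g : Cfsg.SU n F q) (y : Fin n → F) : ∃ x, ap g x = y :=
  ⟨_, ap_ap_inv g y⟩

theorem su_ext {g h : Cfsg.SU n F q} (e : ∀ y, ap g y = ap h y) : g = h :=
  Subtype.ext (Subtype.ext (Matrix.ext_iff_mulVec.2 e))

theorem pr_ap (g : Cfsg.SU n F q) (y u : Fin n → F) : pr U (ap g y) (ap g u) = pr U y u := by
  rw [pr_eq, pr_eq]
  exact g.2 y u

/-- An element of `SU_n` from a linear map. -/
noncomputable def ofLin (f : (Fin n → F) →ₗ[F] (Fin n → F))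
    (hp : ∀ y u, pr U (f y) (f u) = pr U y u) (hd : LinearMap.det f = 1) : Cfsg.SU n F q :=
  ⟨⟨LinearMap.toMatrix' f, by rw [LinearMap.det_toMatrix', hd]⟩, fun y u => by
    show Cfsg.hermForm n F q (LinearMap.toMatrix' f *ᵥ y) (LinearMap.toMatrix' f *ᵥ u) = _
    rw [LinearMap.toMatrix'_mulVec, LinearMap.toMatrix'_mulVec, ← pr_eq U, ← pr_eq U, hp]⟩

theorem ap_ofLin (f : (Fin n → F) →ₗ[F] (Fin n → F))
    (hp : ∀ y u, pr U (f y) (f u) = pr U y u) (hd : LinearMap.det f = 1) (y : Fin n → F) :
    ap (ofLin U f hp hd) y = f y := LinearMap.toMatrix'_mulVec f y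

/-- The functional `y ↦ (y, u)`. -/
noncomputable abbrev prL (u : Fin n → F) : Module.Dual F (Fin n → F) := FormsLib.hermB n U.σ u

/-- The root map `y ↦ y + (y,u) x - (y,x) u + z (y,u) u`. -/
noncomputable def eFun (u x : Fin n → F) (z : F) (y : Fin n → F) : Fin n → F :=
  y + pr U y u • x - pr U y x • u + (z * pr U y u) • u

/-- Conditions for a root element. -/
structure EOk (u x : Fin n → F) (z : F) : Prop where
  iso : pr U u u = 0
  perp : pr U x u = 0
  norm : z + U.σ z + pr U x x = 0

/-- The root map as a linear map. -/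
noncomputable def eLin (u x : Fin n → F) (z : F) : (Fin n → F) →ₗ[F] (Fin n → F) :=
  (LinearMap.transvection (prL U u) x).comp
    (LinearMap.transvection (z • prL U u - prL U x) u)

theorem eLin_apply {u x : Fin n → F} {z : F} (hu : pr U u u = 0) (y : Fin n → F) :
    eLin U u x z y = eFun U u x z y := by
  have h : prL U u u = 0 := hu
  simp only [eLin, eFun, LinearMap.comp_apply, LinearMap.transvection.apply, map_add, map_smul, h,
    smul_zero, add_zero, LinearMap.sub_apply, LinearMap.smul_apply, smul_eq_mul]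
  simp only [pr, prL]
  module

theorem eLin_det {u x : Fin n → F} {z : F} (h : EOk U u x z) : LinearMap.det (eLin U u x z) = 1 := by
  rw [eLin, LinearMap.det_comp, LinearMap.transvection.det, LinearMap.transvection.det]
  have h1 : prL U u x = 0 := h.perp
  have h2 : prL U u u = 0 := h.iso
  have h3 : prL U x u = 0 := (pr_eq_zero_comm U x u).1 h.perp
  simp [h1, h2, h3]

theorem eFun_isom {u x : Fin n → F} {z : F} (h : EOk U u x z) (y y' : Fin n → F) :
    pr U (eFun U u x z y) (eFun U u x z y') = pr U y y' := by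
  have hux : pr U u x = 0 := (pr_eq_zero_comm U x u).1 h.perp
  simp only [eFun, pr_add_left, pr_sub_left, pr_smul_left, pr_add_right, pr_sub_right,
    pr_smul_right, h.iso, h.perp, hux, map_mul, ← pr_swap U x y', ← pr_swap U u y', mul_zero,
    add_zero, sub_zero]
  linear_combination (pr U y u * pr U u y') * h.norm

/-- The root element. -/
noncomputable def eEl {u x : Fin n → F} {z : F} (h : EOk U u x z) : Cfsg.SU n F q :=
  ofLin U (eLin U u x z)
    (fun y y' => by rw [eLin_apply U h.iso, eLin_apply U h.iso, eFun_isom U h]) (eLin_det U h)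

theorem ap_eEl {u x : Fin n → F} {z : F} (h : EOk U u x z) (y : Fin n → F) :
    ap (eEl U h) y = eFun U u x z y := by rw [eEl, ap_ofLin, eLin_apply U h.iso]

theorem eFun_mul {u x x' : Fin n → F} {z z' : F} (h : EOk U u x z) (h' : EOk U u x' z')
    (y : Fin n → F) :
    eFun U u x z (eFun U u x' z' y) = eFun U u (x + x') (z + z' - pr U x' x) y := by
  simp only [eFun, pr_add_left, pr_sub_left, pr_smul_left, pr_add_right, h.iso, h'.perp,
    (pr_eq_zero_comm U x u).1 h.perp, mul_zero, add_zero, sub_zero]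
  module

theorem EOk.add {u x x' : Fin n → F} {z z' : F} (h : EOk U u x z) (h' : EOk U u x' z') :
    EOk U u (x + x') (z + z' - pr U x' x) where
  iso := h.iso
  perp := by rw [pr_add_left, h.perp, h'.perp, add_zero]
  norm := by
    rw [map_sub, map_add, pr_add_left, pr_add_right, pr_add_right, ← pr_swap U x x']
    linear_combination h.norm + h'.norm

theorem eFun_conj (g : Cfsg.SU n F q) (u x : Fin n → F) (z : F) (y : Fin n → F) :
    ap g (eFun U u x z y) = eFun U (ap g u) (ap g x) z (ap g y) := by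
  simp only [eFun, pr_ap, ap, Matrix.mulVec_add, Matrix.mulVec_sub, Matrix.mulVec_smul]

theorem eFun_smul (a : F) (u x : Fin n → F) (z : F) (y : Fin n → F) :
    eFun U (a • u) x z y = eFun U u (U.σ a • x) (a * U.σ a * z) y := by
  simp only [eFun, pr_smul_right, U.inv]
  module

theorem eFun_symm {u x : Fin n → F} (y : Fin n → F) : eFun U u x 0 y = eFun U x (-u) 0 y := by
  simp only [eFun, pr_neg_right, zero_mul, zero_smul, add_zero]
  module

theorem eFun_zero (u y : Fin n → F) : eFun U u 0 0 y = y := by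
  simp [eFun, pr_zero_right]

variable {U}
variable {M : Subgroup (Cfsg.SU n F q)}

/-- The root element with these parameters lies in `M`. -/
def MemE (U : UD F q) (M : Subgroup (Cfsg.SU n F q)) (u x : Fin n → F) (z : F) : Prop :=
  EOk U u x z ∧ ∃ g ∈ M, ∀ y, ap g y = eFun U u x z y

/-- Some root element with this direction lies in `M`. -/
def RX (U : UD F q) (M : Subgroup (Cfsg.SU n F q)) (u x : Fin n → F) : Prop :=
  ∃ z, MemE U M u x z

/-- All transvections at `u` lie in `M`. -/
def Ctr (U : UD F q) (M : Subgroup (Cfsg.SU n F q)) (u : Fin n → F) : Prop :=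
  ∀ z, z + U.σ z = 0 → MemE U M u 0 z

theorem MemE.zero {u : Fin n → F} (hu : pr U u u = 0) : MemE U M u 0 0 :=
  ⟨⟨hu, pr_zero_left U u, by simp [pr_zero_left]⟩, 1, M.one_mem, fun y => by
    rw [ap_one, eFun_zero]⟩

theorem MemE.mul {u x x' : Fin n → F} {z z' : F} (h : MemE U M u x z) (h' : MemE U M u x' z') :
    MemE U M u (x + x') (z + z' - pr U x' x) := by
  obtain ⟨ok, g, hg, e⟩ := h
  obtain ⟨ok', g', hg', e'⟩ := h'
  exact ⟨ok.add U ok', g * g', M.mul_mem hg hg', fun y => by
    rw [ap_mul, e', e, eFun_mul U ok ok']⟩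

theorem MemE.inv {u x : Fin n → F} {z : F} (h : MemE U M u x z) :
    MemE U M u (-x) (U.σ z) := by
  obtain ⟨ok, g, hg, e⟩ := h
  have ok' : EOk U u (-x) (U.σ z) := ⟨ok.iso, by rw [pr_neg_left, ok.perp, neg_zero], by
    rw [pr_neg_left, pr_neg_right, neg_neg, U.inv]; linear_combination ok.norm⟩
  refine ⟨ok', g⁻¹, M.inv_mem hg, fun y => ?_⟩
  have hy : ap g (eFun U u (-x) (U.σ z) y) = y := by
    rw [e, eFun_mul U ok ok', add_neg_cancel, pr_neg_left,
      show z + U.σ z - -pr U x x = 0 by linear_combination ok.norm, eFun_zero]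
  conv_lhs => rw [← hy]
  rw [ap_inv_ap]

theorem MemE.map {u x : Fin n → F} {z : F} (h : MemE U M u x z) {g : Cfsg.SU n F q} (hg : g ∈ M) :
    MemE U M (ap g u) (ap g x) z := by
  obtain ⟨ok, r, hr, e⟩ := h
  refine ⟨⟨by rw [pr_ap]; exact ok.iso, by rw [pr_ap]; exact ok.perp, by rw [pr_ap]; exact ok.norm⟩,
    g * r * g⁻¹, M.mul_mem (M.mul_mem hg hr) (M.inv_mem hg), fun y => ?_⟩
  rw [ap_mul, ap_mul, e, eFun_conj, ap_ap_inv]

theorem MemE.smul_left {u x : Fin n → F} {z a : F} (ha : a ≠ 0) (h : MemE U M (a • u) x z) :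
    MemE U M u (U.σ a • x) (a * U.σ a * z) := by
  obtain ⟨ok, r, hr, e⟩ := h
  have h1 := ok.iso
  have h2 := ok.perp
  simp only [pr_smul_left, pr_smul_right] at h1 h2
  have hσ : U.σ a ≠ 0 := (map_ne_zero U.σ).2 ha
  refine ⟨⟨?_, ?_, ?_⟩, r, hr, fun y => by rw [e, eFun_smul]⟩
  · simpa [ha, hσ] using h1
  · rw [pr_smul_left]; simpa [hσ] using h2
  · rw [pr_smul_left, pr_smul_right, map_mul, map_mul, U.inv]
    linear_combination (a * U.σ a) * ok.norm

theorem MemE.congr {u u' x x' : Fin n → F} {z z' : F} (h : MemE U M u x z) (hu : u = u')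
    (hx : x = x') (hz : z = z') : MemE U M u' x' z' := by subst hu hx hz; exact h

theorem RX.add {u x x' : Fin n → F} (h : RX U M u x) (h' : RX U M u x') : RX U M u (x + x') := by
  obtain ⟨z, h⟩ := h
  obtain ⟨z', h'⟩ := h'
  exact ⟨_, h.mul h'⟩

theorem RX.neg {u x : Fin n → F} (h : RX U M u x) : RX U M u (-x) := by
  obtain ⟨z, h⟩ := h
  exact ⟨_, h.inv⟩

theorem RX.zero {u : Fin n → F} (hu : pr U u u = 0) : RX U M u 0 := ⟨0, MemE.zero hu⟩

theorem RX.map {u x : Fin n → F} (h : RX U M u x) {g : Cfsg.SU n F q} (hg : g ∈ M) :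
    RX U M (ap g u) (ap g x) := by
  obtain ⟨z, h⟩ := h
  exact ⟨z, h.map hg⟩

theorem RX.smul_left {u x : Fin n → F} {a : F} (ha : a ≠ 0) (h : RX U M (a • u) x) :
    RX U M u (U.σ a • x) := by
  obtain ⟨z, h⟩ := h
  exact ⟨_, h.smul_left ha⟩

/-- The scalars of one direction. -/
def rxScal (u x : Fin n → F) (hu : pr U u u = 0) : AddSubgroup F where
  carrier := {s | RX U M u (s • x)}
  zero_mem' := by show RX U M u ((0 : F) • x); rw [zero_smul]; exact RX.zero hu
  add_mem' {a b} ha hb := by
    show RX U M u ((a + b) • x); rw [add_smul]; exact RX.add ha hb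
  neg_mem' {a} ha := by show RX U M u ((-a) • x); rw [neg_smul]; exact RX.neg ha

/-- Commutators of root elements at one point are transvections there. -/
theorem MemE.comm_center {u x x' : Fin n → F} {z z' : F} (h : MemE U M u x z)
    (h' : MemE U M u x' z') : MemE U M u 0 (pr U x x' - pr U x' x) := by
  have h1 := (h.mul h').mul (h'.mul h).inv
  refine h1.congr rfl (by abel) ?_
  simp only [map_sub, map_add, pr_neg_left, pr_add_left, pr_add_right, ← pr_swap U]
  linear_combination h.1.norm + h'.1.norm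

/-- Commutators of root elements at two orthogonal points. -/
theorem MemE.comm {a b x x' : Fin n → F} {z z' : F} (h : MemE U M a x z)
    (h' : MemE U M b x' z') (hab : pr U a b = 0) (hxb : pr U x b = 0) (hxa : pr U x' a = 0) :
    MemE U M b ((-pr U x' x) • a) 0 := by
  obtain ⟨ok, g, hg, e⟩ := h
  have hb : ap g b = b := by
    rw [e, eFun, (pr_eq_zero_comm U a b).1 hab, (pr_eq_zero_comm U x b).1 hxb]
    simp
  have hx : ap g x' = x' + (-pr U x' x) • a := by
    rw [e, eFun, hxa]
    module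
  have h1 := (MemE.map h' hg).congr hb hx rfl
  have h2 := h1.mul h'.inv
  refine h2.congr rfl (by abel) ?_
  rw [pr_neg_left, pr_add_right, pr_smul_right, hxa]
  linear_combination h'.1.norm

end Cfsg.Agent.ClassTwoGen.SUGen
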