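import Cfsg.Agent.Lib.ClassTwoGen.SUHyp

/-!
# Two generators of `SU_n`

The first generator is a torus element, the second the product of a root element and the monomial
cycle.
-/

set_option autoImplicit false
set_option linter.unusedSectionVars false

namespace Cfsg.Agent.ClassTwoGen.SUGen

open Matrix Cfsg.Agent

universe u

variable {F : Type u} [Field F] [Fintype F] {n q : ℕ} {U : UD F q}

/-! ### Root elements as given elements -/

/-- `g` is the root element with these parameters. -/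
def IsE (U : UD F q) (g : Cfsg.SU n F q) (u x : Fin n → F) (z : F) : Prop :=
  EOk U u x z ∧ ∀ y, ap g y = eFun U u x z y

theorem IsE.mul {g g' : Cfsg.SU n F q} {u x x' : Fin n → F} {z z' : F} (h : IsE U g u x z)
    (h' : IsE U g' u x' z') : IsE U (g * g') u (x + x') (z + z' - pr U x' x) :=
  ⟨h.1.add U h'.1, fun y => by rw [ap_mul, h'.2, h.2, eFun_mul U h.1 h'.1]⟩

theorem IsE.inv {g : Cfsg.SU n F q} {u x : Fin n → F} {z : F} (h : IsE U g u x z) :
    IsE U g⁻¹ u (-x) (U.σ z) := by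
  have hm : MemE U (Subgroup.zpowers g) u x z := ⟨h.1, g, Subgroup.mem_zpowers g, h.2⟩
  refine ⟨hm.inv.1, fun y => ?_⟩
  have hy : ap g (eFun U u (-x) (U.σ z) y) = y := by
    rw [h.2, eFun_mul U h.1 hm.inv.1, add_neg_cancel, pr_neg_left,
      show z + U.σ z - -pr U x x = 0 by linear_combination h.1.norm, eFun_zero]
  conv_lhs => rw [← hy]
  rw [ap_inv_ap]

/-- Conjugation by an element with `u` and `x` as eigenvectors. -/
theorem IsE.conj {g r : Cfsg.SU n F q} {u x : Fin n → F} {z a b : F} (ha : a ≠ 0)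
    (h : IsE U r u x z) (hu : ap g u = a • u) (hx : ap g x = b • x) :
    IsE U (g * r * g⁻¹) u ((U.σ a * b) • x) (a * U.σ a * z) := by
  have hm : MemE U (⊤ : Subgroup (Cfsg.SU n F q)) u x z := ⟨h.1, r, Subgroup.mem_top _, h.2⟩
  have h1 := (hm.map (Subgroup.mem_top g)).congr hu hx rfl
  refine ⟨by rw [← smul_smul]; exact (h1.smul_left ha).1, fun y => ?_⟩
  rw [ap_mul, ap_mul, h.2, eFun_conj, ap_ap_inv, hu, hx, eFun_smul, smul_smul]

theorem IsE.mem {g : Cfsg.SU n F q} {u x : Fin n → F} {z : F} {M : Subgroup (Cfsg.SU n F q)}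
    (h : IsE U g u x z) (hg : g ∈ M) : MemE U M u x z := ⟨h.1, g, hg, h.2⟩

theorem IsE.mem_of {g : Cfsg.SU n F q} {u x : Fin n → F} {z : F} {M : Subgroup (Cfsg.SU n F q)}
    (h : IsE U g u x z) (hm : MemE U M u x z) : g ∈ M := by
  obtain ⟨-, g', hg', e⟩ := hm
  rwa [show g = g' from su_ext fun y => by rw [h.2, e]]

/-- The commutator of a torus element with a root-conjugate of a second one. -/
theorem comm_isE {X h h' : Cfsg.SU n F q} {u x : Fin n → F} {z l l' a a' : F}
    (hX : IsE U X u x z) (hl : l ≠ 0) (hl' : l' ≠ 0) (hu : ap h u = l • u) (hx : ap h x = a • x)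
    (hu' : ap h' u = l' • u) (hx' : ap h' x = a' • x) (hc : h * h' = h' * h) :
    ∃ z', IsE U (h * (X * h' * X⁻¹) * h⁻¹ * (X * h' * X⁻¹)⁻¹) u
        (((U.σ l * a - 1) * (1 - U.σ l' * a')) • x) z' ∧
      (z = 0 → pr U x x = 0 → z' = 0) := by
  have m1 := hX.conj hl hu hx
  have h1u : ap h' u = l' • u := hu'
  have h1x : ap h' (-((U.σ l * a) • x)) = a' • (-((U.σ l * a) • x)) := by
    rw [ap_neg, ap_smul, hx', smul_neg, smul_comm]
  have m2 := m1.inv.conj hl' h1u h1x
  have m3 := hX.conj hl' hu' hx'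
  have m := ((m1.mul m2).mul m3).mul hX.inv
  have e : h * (X * h' * X⁻¹) * h⁻¹ * (X * h' * X⁻¹)⁻¹ =
      h * X * h⁻¹ * (h' * (h * X * h⁻¹)⁻¹ * h'⁻¹) * (h' * X * h'⁻¹) * X⁻¹ := by
    have e1 : h⁻¹ * h' * h = h' := by rw [mul_assoc, ← hc, inv_mul_cancel_left]
    calc h * (X * h' * X⁻¹) * h⁻¹ * (X * h' * X⁻¹)⁻¹
        = h * X * (h⁻¹ * h' * h) * X⁻¹ * h⁻¹ * (X * h' * X⁻¹)⁻¹ := by rw [e1]; group
      _ = _ := by group
  rw [e]
  have ev : (U.σ l * a) • x + (U.σ l' * a') • -((U.σ l * a) • x) + (U.σ l' * a') • x + -x =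
      ((U.σ l * a - 1) * (1 - U.σ l' * a')) • x := by module
  obtain ⟨z', hz'⟩ : ∃ z', z' = l * U.σ l * z + l' * U.σ l' * U.σ (l * U.σ l * z) -
      pr U ((U.σ l' * a') • -((U.σ l * a) • x)) ((U.σ l * a) • x) + l' * U.σ l' * z -
      pr U ((U.σ l' * a') • x) ((U.σ l * a) • x + (U.σ l' * a') • -((U.σ l * a) • x)) + U.σ z -
      pr U (-x) ((U.σ l * a) • x + (U.σ l' * a') • -((U.σ l * a) • x) + (U.σ l' * a') • x) :=
    ⟨_, rfl⟩
  rw [← hz', ev] at m
  refine ⟨z', m, fun hz hxx => ?_⟩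
  subst hz
  simp [hz', pr_smul_left, pr_smul_right, pr_neg_left, pr_neg_right, pr_add_right, hxx]

/-! ### Torus commutation -/

theorem HypU.lin_ext {m : ℕ} (H : HypU U n m) {g h : Cfsg.SU n F q}
    (he : ∀ i, ap g (H.e i) = ap h (H.e i)) (hf : ∀ i, ap g (H.f i) = ap h (H.f i))
    (hp : ∀ v, H.Perp v → ap g v = ap h v) : g = h := su_ext fun v => by
  have h1 := hp _ (H.decomp v)
  have e : ∀ a : Cfsg.SU n F q,
      ap a (∑ i, (pr U v (H.f i) • H.e i + pr U v (H.e i) • H.f i)) =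
        ∑ i, (pr U v (H.f i) • ap a (H.e i) + pr U v (H.e i) • ap a (H.f i)) := fun a => by
    rw [ap, Matrix.mulVec_sum]
    exact Finset.sum_congr rfl fun i _ => by rw [← ap, ap_add, ap_smul, ap_smul]
  rw [ap_sub, ap_sub, e, e] at h1
  simp only [he, hf] at h1
  exact sub_left_injective h1

/-- Diagonal on the system. -/
structure IsDiag {m : ℕ} (H : HypU U n m) (h : Cfsg.SU n F q) : Prop where
  e : ∀ i, ∃ c : F, ap h (H.e i) = c • H.e i
  f : ∀ i, ∃ c : F, ap h (H.f i) = c • H.f i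
  perp : ∀ v, H.Perp v → ∃ c : F, ap h v = c • v

theorem IsDiag.comm {m : ℕ} {H : HypU U n m} {h h' : Cfsg.SU n F q} (hh : IsDiag H h)
    (hh' : IsDiag H h') : h * h' = h' * h := by
  have key : ∀ (v : Fin n → F) (a b : F), ap h v = a • v → ap h' v = b • v →
      ap (h * h') v = ap (h' * h) v := fun v a b ea eb => by
    rw [ap_mul, ap_mul, eb, ea, ap_smul, ap_smul, ea, eb, smul_comm]
  refine H.lin_ext (fun i => ?_) (fun i => ?_) (fun v hv => ?_)
  · obtain ⟨a, ea⟩ := hh.e i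
    obtain ⟨b, eb⟩ := hh'.e i
    exact key _ a b ea eb
  · obtain ⟨a, ea⟩ := hh.f i
    obtain ⟨b, eb⟩ := hh'.f i
    exact key _ a b ea eb
  · obtain ⟨a, ea⟩ := hh.perp v hv
    obtain ⟨b, eb⟩ := hh'.perp v hv
    exact key _ a b ea eb

/-- Eigenvectors of a conjugate. -/
theorem eig_conj {N h : Cfsg.SU n F q} {v v' : Fin n → F} {c a : F} (ha : a ≠ 0)
    (hN : ap N v = a • v') (hh : ap h v = c • v) : ap (N * h * N⁻¹) v' = c • v' := by
  have e : v' = ap N (a⁻¹ • v) := by rw [ap_smul, hN, smul_smul, inv_mul_cancel₀ ha, one_smul]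
  rw [e, ap_mul, ap_mul, ap_inv_ap, ap_smul h, hh, ap_smul, ap_smul, ap_smul, smul_comm]

variable {k : ℕ}

theorem CycU.diag_conj {H : HypU U n (k + 1)} {N h : Cfsg.SU n F q} (hN : CycU H N)
    (hh : IsDiag H h) : IsDiag H (N * h * N⁻¹) := by
  obtain ⟨a, b, ha, hb, la, lb⟩ := hN.last le_rfl (Nat.zero_le k)
  have hk := hh.e (ix k le_rfl)
  refine ⟨fun i => ?_, fun i => ?_, fun v hv => ?_⟩
  · obtain ⟨i, hi⟩ := i
    rcases i with _ | i
    · obtain ⟨c, hc⟩ := hh.f (ix k le_rfl)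
      exact ⟨c, eig_conj hb lb hc⟩
    · obtain ⟨c, hc⟩ := hh.e (ix i (by omega))
      exact ⟨c, eig_conj one_ne_zero ((hN.step i _ (by omega)).1.trans (one_smul F _).symm) hc⟩
  · obtain ⟨i, hi⟩ := i
    rcases i with _ | i
    · obtain ⟨c, hc⟩ := hh.e (ix k le_rfl)
      exact ⟨c, eig_conj ha la hc⟩
    · obtain ⟨c, hc⟩ := hh.f (ix i (by omega))
      exact ⟨c, eig_conj one_ne_zero ((hN.step i _ (by omega)).2.trans (one_smul F _).symm) hc⟩
  · obtain ⟨c, hc⟩ := hh.perp v hv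
    exact ⟨c, eig_conj one_ne_zero ((hN.perp v hv).trans (one_smul F _).symm) hc⟩

/-! ### Scalars -/

theorem gen_pow_ne_one (hF : Fintype.card F = q ^ 2) {g : Fˣ}
    (hg : ∀ x : Fˣ, x ∈ Subgroup.zpowers g) {j : ℕ} (h0 : 0 < j) (h1 : j < q ^ 2 - 1) :
    (g : F) ^ j ≠ 1 := by
  classical
  have hord : orderOf g = q ^ 2 - 1 := by
    rw [orderOf_eq_card_of_forall_mem_zpowers hg, Nat.card_eq_fintype_card, Fintype.card_units, hF]
  intro e
  exact pow_ne_one_of_lt_orderOf h0.ne' (by rw [hord]; exact h1) (Units.ext (by simpa using e))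

/-- Closed under multiplication by the square of a generator. -/
theorem full_of_sq (A : AddSubgroup F) {c : F} (hc : c ≠ 0) (h0 : c ∈ A) {l : Fˣ}
    (hl : ∀ x : Fˣ, x ∈ Subgroup.zpowers l) (hcl : ∀ x ∈ A, (l : F) * (l : F) * x ∈ A) (x : F) :
    x ∈ A := by
  have hs : ∀ a : F, a * a * c ∈ A := by
    intro a
    by_cases ha : a = 0
    · rw [ha, zero_mul, zero_mul]; exact A.zero_mem
    have hpow : ∀ j : ℕ, ((l : F) * (l : F)) ^ j * c ∈ A := by
      intro j
      induction j with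
      | zero => rwa [pow_zero, one_mul]
      | succ j ih => rw [pow_succ', mul_assoc]; exact hcl _ ih
    obtain ⟨j, hj⟩ := mem_powers_iff_mem_zpowers.2 (hl (Units.mk0 a ha))
    have e : a = (l : F) ^ j := by simpa using (congrArg Units.val hj).symm
    rw [e, ← mul_pow]
    exact hpow j
  by_cases h2 : (2 : F) = 0
  · haveI : CharP F 2 := CharTwo.of_one_ne_zero_of_two_eq_zero one_ne_zero h2
    obtain ⟨a, ha⟩ := FiniteField.isSquare_of_char_two (ringChar.eq F 2) (x / c)
    have h := hs a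
    rwa [← ha, div_mul_cancel₀ _ hc] at h
  · have e : x = (x / c + 1) / 2 * ((x / c + 1) / 2) * c -
        (x / c - 1) / 2 * ((x / c - 1) / 2) * c := by
      field_simp
      ring
    rw [e]
    exact A.sub_mem (hs _) (hs _)

/-- Closed under a scalar outside the fixed field whose norm generates the fixed field. -/
theorem full_of_norm (hF : Fintype.card F = q ^ 2) (hq : 2 ≤ q) (A : AddSubgroup F) {c : F}
    (hc : c ≠ 0) (h0 : c ∈ A) {g : Fˣ} (hg : ∀ x : Fˣ, x ∈ Subgroup.zpowers g) {χ : F}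
    (hχ : U.σ χ ≠ χ) (hN : χ * U.σ χ = (g : F) * U.σ (g : F))
    (hcl : ∀ x ∈ A, χ * x ∈ A) (x : F) : x ∈ A := by
  have hpow : ∀ j : ℕ, ∀ x ∈ A, χ ^ j * x ∈ A := by
    intro j
    induction j with
    | zero => intro x hx; rwa [pow_zero, one_mul]
    | succ j ih => intro x hx; rw [pow_succ', mul_assoc]; exact hcl _ (ih x hx)
  have hfix : ∀ a : F, U.σ a = a → a * c ∈ A := by
    intro a ha
    by_cases ha0 : a = 0
    · rw [ha0, zero_mul]; exact A.zero_mem
    obtain ⟨b, hb⟩ := (FormsLib.hermB_isUnitary hF 1 U.pow U.inv hq).1.norm_surj a ha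
    have hb0 : b ≠ 0 := fun e => ha0 (by rw [← hb, e, zero_mul])
    obtain ⟨j, hj⟩ := mem_powers_iff_mem_zpowers.2 (hg (Units.mk0 b hb0))
    have e : b = (g : F) ^ j := by simpa using (congrArg Units.val hj).symm
    rw [← hb, e, map_pow, ← mul_pow, ← hN, U.pow χ, ← pow_succ', ← pow_mul]
    exact hpow _ c h0
  have hd : χ - U.σ χ ≠ 0 := sub_ne_zero.2 (Ne.symm hχ)
  set v := x / c with hv
  set y := (v - U.σ v) / (χ - U.σ χ) with hy
  have hyf : U.σ y = y := by
    rw [hy, map_div₀, map_sub, map_sub, U.inv, U.inv, ← neg_sub v, ← neg_sub χ, neg_div_neg_eq]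
  have hxf : U.σ (v - y * χ) = v - y * χ := by
    rw [map_sub, map_mul, hyf]
    have e : y * (χ - U.σ χ) = v - U.σ v := by rw [hy, div_mul_cancel₀ _ hd]
    linear_combination e
  have e : x = (v - y * χ) * c + χ * (y * c) := by
    rw [hv]; field_simp; ring
  rw [e]
  exact A.add_mem (hfix _ hxf) (hcl _ (hfix _ hyf))

/-! ### Directions at a point -/

variable {M : Subgroup (Cfsg.SU n F q)}

/-- All multiples of a direction. -/
def PX (U : UD F q) (M : Subgroup (Cfsg.SU n F q)) (u x : Fin n → F) : Prop :=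
  ∀ s : F, RX U M u (s • x)

theorem PX.self {u : Fin n → F} (hu : pr U u u = 0) : PX U M u u := fun s =>
  ⟨U.σ s - s, ⟨hu, by rw [pr_smul_left, hu, mul_zero], by
      rw [pr_smul_left, pr_smul_right, hu, mul_zero, mul_zero, map_sub, U.inv]; ring⟩, 1, M.one_mem, fun y => by
      rw [ap_one, eFun, pr_smul_right]; module⟩

theorem PX.smul {u x : Fin n → F} (h : PX U M u x) (a : F) : PX U M u (a • x) := fun s => by
  rw [smul_smul]; exact h _

theorem PX.add {u x x' : Fin n → F} (h : PX U M u x) (h' : PX U M u x') : PX U M u (x + x') :=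
  fun s => by rw [smul_add]; exact (h s).add (h' s)

theorem PX.map {u x : Fin n → F} (h : PX U M u x) {g : Cfsg.SU n F q} (hg : g ∈ M) :
    PX U M (ap g u) (ap g x) := fun s => by rw [← ap_smul]; exact (h s).map hg

theorem PX.smul_left {u x : Fin n → F} {a : F} (ha : a ≠ 0) (h : PX U M (a • u) x) :
    PX U M u x := fun s => by
  have h1 := (h ((U.σ a)⁻¹ * s)).smul_left ha
  rwa [smul_smul, ← mul_assoc, mul_inv_cancel₀ ((map_ne_zero U.σ).2 ha), one_mul] at h1

theorem PX.sum {u : Fin n → F} (hu : pr U u u = 0) {κ : Type*} (t : Finset κ)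
    {w : κ → Fin n → F} (h : ∀ i ∈ t, PX U M u (w i)) : PX U M u (∑ i ∈ t, w i) := by
  induction t using Finset.cons_induction with
  | empty => intro s; rw [Finset.sum_empty, smul_zero]; exact RX.zero hu
  | cons a t ha ih =>
    rw [Finset.sum_cons]
    exact (h a (Finset.mem_cons_self a t)).add (ih fun i hi => h i (Finset.mem_cons_of_mem hi))

/-- The system criterion. -/
theorem HypU.eq_top (hF : Fintype.card F = q ^ 2) (hq : 2 ≤ q) (h32 : ¬ (n = 3 ∧ q = 2))
    (H : HypU U n (k + 1)) {N : Cfsg.SU n F q} (hN : N ∈ M) (hact : CycU H N)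
    (hC : Ctr U M (H.e (ix 0 (Nat.zero_le k))))
    (he : ∀ i, i ≠ ix 0 (Nat.zero_le k) → PX U M (H.e (ix 0 (Nat.zero_le k))) (H.e i))
    (hf : ∀ i, i ≠ ix 0 (Nat.zero_le k) → PX U M (H.e (ix 0 (Nat.zero_le k))) (H.f i))
    (hp : ∀ v, H.Perp v → PX U M (H.e (ix 0 (Nat.zero_le k))) v) : M = ⊤ := by
  set i0 := ix 0 (Nat.zero_le k) with hi0
  have hu : pr U (H.e i0) (H.e i0) = 0 := H.ee _ _
  have hW : InW U M (H.e i0) := by
    refine inW_of_rx hu hC fun x hx => ?_
    have h := (hp _ (H.decomp x)).add (PX.sum hu Finset.univ (w := fun i =>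
      pr U x (H.f i) • H.e i + pr U x (H.e i) • H.f i) fun i _ => ?_)
    · have h1 := h 1
      rwa [one_smul, sub_add_cancel] at h1
    by_cases h : i = i0
    · subst h
      rw [hx, zero_smul, add_zero]
      exact (PX.self hu).smul _
    · exact ((he i h).smul _).add ((hf i h).smul _)
  have hmove : ∀ j (h : j ≤ k), ∃ g ∈ M, ap g (H.e i0) = H.e (ix j h) := by
    intro j
    induction j with
    | zero => intro h; exact ⟨1, M.one_mem, ap_one _⟩
    | succ j ih =>
      intro h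
      obtain ⟨g, hg, e⟩ := ih (by omega)
      exact ⟨N * g, M.mul_mem hN hg, by rw [ap_mul, e, (hact.step j (by omega) h).1]⟩
  obtain ⟨g, hg, e⟩ := hmove k le_rfl
  obtain ⟨a, b, ha, -, la, -⟩ := hact.last le_rfl (Nat.zero_le k)
  refine eq_top_of_inW hF hq h32 hW (g := N * g) (M.mul_mem hN hg) ?_
  rw [ap_mul, e, la, pr_smul_left, H.fe, if_pos rfl, mul_one]
  exact ha

/-! ### Even dimension -/

theorem exists_two_gen_even (hF : Fintype.card F = q ^ 2) (hq : 2 ≤ q) (h32 : ¬ (n = 3 ∧ q = 2))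
    (H : HypU U n (k + 1)) (hk : 1 ≤ k) (hP : ∀ v, H.Perp v → v = 0) :
    ∃ a b : Cfsg.SU n F q, Subgroup.closure ({a, b} : Set (Cfsg.SU n F q)) = ⊤ := by
  classical
  obtain ⟨g, hg⟩ := IsCyclic.exists_generator (α := Fˣ)
  obtain ⟨⟨d, hd0, hd⟩, -⟩ := exists_scalars U hF hq
  obtain ⟨N, hact⟩ := exists_cycU H hd hd0
  let i0 : Fin (k + 1) := ix 0 (Nat.zero_le k)
  let i1 : Fin (k + 1) := ix 1 hk
  have h01 : i0 ≠ i1 := ix_ne (by omega)
  let h := torus H h01 g
  let h' := N * h * N⁻¹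
  have hdiag : IsDiag H h := ⟨fun i => ⟨_, torus_e H h01 g i⟩, fun i => ⟨_, torus_f H h01 g i⟩,
    fun v hv => ⟨0, by rw [hP v hv]; simp [ap]⟩⟩
  have ok : EOk U (H.e i0) (H.f i1) 0 := ⟨H.ee _ _, by rw [H.fe, if_neg h01.symm], by
    rw [H.ff, map_zero]; ring⟩
  let X := eEl U ok
  have hX : IsE U X (H.e i0) (H.f i1) 0 := ⟨ok, ap_eEl U ok⟩
  refine ⟨h, X * N, ?_⟩
  set M := Subgroup.closure ({h, X * N} : Set (Cfsg.SU n F q))
  have hh : h ∈ M := Subgroup.subset_closure (Set.mem_insert _ _)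
  have hb : X * N ∈ M := Subgroup.subset_closure (Set.mem_insert_of_mem _ rfl)
  have hu : ap h (H.e i0) = (g : F) • H.e i0 := by rw [torus_e, if_pos rfl]
  have hx : ap h (H.f i1) = U.σ (g : F) • H.f i1 := by
    rw [torus_f, if_neg h01.symm, if_pos rfl]
  obtain ⟨a, b, ha, hb', la, lb⟩ := hact.last le_rfl (Nat.zero_le k)
  obtain ⟨ck, hck, hk'⟩ : ∃ ck : F, ap h' (H.e i0) = U.σ ck • H.e i0 ∧
      (ck = (g : F) ∧ k = 1 ∨ ck = 1 ∧ k ≠ 1) := by
    by_cases h1 : k = 1
    · refine ⟨g, eig_conj hb' lb ?_, Or.inl ⟨rfl, h1⟩⟩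
      rw [torus_f, if_neg (ix_ne (by omega)), if_pos (Fin.ext (by simp [i1, ix, h1]))]
    · refine ⟨1, eig_conj hb' lb ?_, Or.inr ⟨rfl, h1⟩⟩
      rw [map_one, torus_f, if_neg (ix_ne (by omega)), if_neg (ix_ne h1)]
  have hx' : ap h' (H.f i1) = U.σ (↑g⁻¹ : F) • H.f i1 := by
    refine eig_conj one_ne_zero ((hact.step 0 (Nat.zero_le k) hk).2.trans (one_smul F _).symm) ?_
    rw [torus_f, if_pos rfl]
  have hgne : ∀ j, 0 < j → j < q ^ 2 - 1 → (g : F) ^ j ≠ 1 := fun j => gen_pow_ne_one hF hg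
  have hq2 : q * 2 ≤ q ^ 2 := by rw [pow_two]; exact Nat.mul_le_mul_left q hq
  have hck0 : ck ≠ 0 := by rcases hk' with ⟨e, -⟩ | ⟨e, -⟩ <;> simp [e]
  have hσ0 : ∀ c : F, c ≠ 0 → U.σ c ≠ 0 := fun c hc => (map_ne_zero U.σ).2 hc
  obtain ⟨z', hC, hz'⟩ := comm_isE hX (Units.ne_zero g) (hσ0 _ hck0) hu hx hck hx'
    (hdiag.comm (hact.diag_conj hdiag))
  rw [hz' rfl (H.ff _ _)] at hC
  have hCM : MemE U M (H.e i0)
      (((U.σ (g : F) * U.σ (g : F) - 1) * (1 - U.σ (U.σ ck) * U.σ (↑g⁻¹ : F))) • H.f i1) 0 := by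
    refine hC.mem ?_
    have hG : X * h' * X⁻¹ ∈ M := by
      have h1 := M.mul_mem (M.mul_mem hb hh) (M.inv_mem hb)
      have e : X * N * h * (X * N)⁻¹ = X * h' * X⁻¹ := by simp only [h']; group
      rwa [e] at h1
    exact M.mul_mem (M.mul_mem (M.mul_mem hh hG) (M.inv_mem hh)) (M.inv_mem hG)
  have hc0 : ((U.σ (g : F) * U.σ (g : F) - 1) * (1 - U.σ (U.σ ck) * U.σ (↑g⁻¹ : F))) ≠ 0 := by
    refine mul_ne_zero (sub_ne_zero.2 ?_) (sub_ne_zero.2 ?_)
    · rw [← map_mul]
      intro e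
      rw [map_eq_one_iff U.σ U.σ.injective, ← pow_two] at e
      exact hgne 2 (by norm_num) (by omega) e
    · rw [U.inv]
      intro e
      have e' : U.σ (g : F) = ck := by
        have := congrArg (fun s => s * U.σ (g : F)) e
        simp only [one_mul, mul_assoc] at this
        rwa [← map_mul, Units.inv_mul, map_one, mul_one] at this
      rcases hk' with ⟨hc, -⟩ | ⟨hc, -⟩ <;> rw [hc] at e'
      · rw [U.pow] at e'
        have e2 : (g : F) * (g : F) ^ (q - 1) = g := by
          rw [← pow_succ', Nat.sub_add_cancel (by omega), e']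
        exact hgne (q - 1) (by omega) (by omega) ((mul_eq_left₀ (Units.ne_zero g)).1 e2)
      · rw [map_eq_one_iff U.σ U.σ.injective] at e'
        exact hgne 1 one_pos (by omega) (by rw [pow_one]; exact e')
  -- all multiples of the root direction
  let A : AddSubgroup F :=
    { carrier := {s | MemE U M (H.e i0) (s • H.f i1) 0}
      zero_mem' := by
        show MemE U M _ _ _
        rw [zero_smul]; exact MemE.zero (H.ee _ _)
      add_mem' := fun {a b} ha hb => by
        show MemE U M _ _ _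
        exact (MemE.mul ha hb).congr rfl (add_smul a b _).symm (by
          rw [pr_smul_left, pr_smul_right, H.ff]; ring)
      neg_mem' := fun {a} ha => by
        show MemE U M _ _ _
        exact (MemE.inv ha).congr rfl (neg_smul a _).symm (map_zero U.σ) }
  have hl : ∀ x : Fˣ, x ∈ Subgroup.zpowers (Units.mk0 (U.σ (g : F)) (hσ0 _ (Units.ne_zero g))) := by
    intro x
    obtain ⟨j, hj⟩ := Subgroup.mem_zpowers_iff.1
      (hg (Units.mk0 (U.σ (x : F)) (hσ0 _ (Units.ne_zero x))))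
    refine Subgroup.mem_zpowers_iff.2 ⟨j, Units.ext ?_⟩
    have e : (g : F) ^ j = U.σ (x : F) := by
      rw [← Units.val_zpow_eq_zpow_val, hj, Units.val_mk0]
    rw [Units.val_zpow_eq_zpow_val, Units.val_mk0, ← map_zpow₀, e, U.inv]
  have hA : ∀ s, s ∈ A := by
    refine full_of_sq A hc0 hCM hl fun s hs => ?_
    have h1 := ((MemE.map hs hh).congr hu (by rw [ap_smul, hx]) rfl).smul_left (Units.ne_zero g)
    refine h1.congr rfl ?_ (mul_zero _)
    rw [Units.val_mk0, smul_smul, smul_smul]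
    congr 1
    ring
  have hA1 : MemE U M (H.e i0) ((1 : F) • H.f i1) 0 := hA 1
  have hXM : X ∈ M := hX.mem_of (hA1.congr rfl (one_smul F _) rfl)
  have hN : N ∈ M := by
    have h1 := M.mul_mem (M.inv_mem hXM) hb
    rwa [inv_mul_cancel_left] at h1
  set u := H.e i0 with hu0
  have hf1 : PX U M u (H.f i1) := fun s => ⟨0, hA s⟩
  -- the roots between neighbouring pairs
  have hroot : ∀ j (hj : j ≤ k) (hj' : j + 1 ≤ k) (s : F),
      MemE U M (H.e (ix j hj)) (s • H.f (ix (j + 1) hj')) 0 := by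
    intro j
    induction j with
    | zero => intro _ _ s; exact hA s
    | succ j ih =>
      intro hj hj' s
      exact ((ih (by omega) hj s).map hN).congr (hact.step j (by omega) hj).1
        (by rw [ap_smul, (hact.step (j + 1) hj hj').2]) rfl
  -- `e_last` from the root crossing back to pair `0`
  have hek : PX U M u (H.e (ix k le_rfl)) := by
    intro s
    obtain ⟨l, hl⟩ : ∃ l, k = l + 1 := ⟨k - 1, by omega⟩
    subst hl
    have hne : (-(U.σ s)) / b * b = -(U.σ s) := div_mul_cancel₀ _ hb'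
    by_cases hs : s = 0
    · rw [hs, zero_smul]; exact RX.zero (H.ee _ _)
    obtain ⟨-, r, hr, e⟩ := ((hroot l (by omega) le_rfl ((-(U.σ s)) / b)).map hN).congr
      (hact.step l (by omega) le_rfl).1 (by rw [ap_smul, lb, smul_smul, hne]) rfl
    refine ⟨0, ⟨H.ee _ _, by rw [pr_smul_left, H.ee, mul_zero], by
      rw [pr_smul_left, pr_smul_right, H.ee, map_zero]; ring⟩, r, hr, fun y => ?_⟩
    rw [e]
    simp only [eFun, pr_smul_right, map_neg, U.inv, hu0, i0, zero_mul, zero_smul, add_zero]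
    module
  -- moving along the chain
  have hfix : ∀ j (hj : j ≤ k) (hj' : j + 1 ≤ k), 1 ≤ j → ∃ r ∈ M, ap r u = u ∧
      ap r (H.f (ix j hj)) = H.f (ix j hj) + H.f (ix (j + 1) hj') ∧
      ap r (H.e (ix (j + 1) hj')) = H.e (ix (j + 1) hj') - H.e (ix j hj) := by
    intro j hj hj' h1
    obtain ⟨-, r, hr, e⟩ := hroot j hj hj' 1
    have n1 : ix j hj ≠ ix (j + 1) hj' := ix_ne (by omega)
    refine ⟨r, hr, ?_, ?_, ?_⟩
    · rw [e, eFun, one_smul, hu0, H.ee, H.ef, if_neg (show i0 ≠ ix (j + 1) hj' from ix_ne (by omega))]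
      simp
    · rw [e, eFun, one_smul, H.fe, if_pos rfl, H.ff]
      simp
    · rw [e, eFun, one_smul, H.ee, H.ef, if_pos rfl]
      simp
  have hsub : ∀ x y : Fin n → F, PX U M u (x + y) → PX U M u x → PX U M u y := fun x y h h' => by
    have h2 := h.add (h'.smul (-1))
    rwa [neg_one_smul, add_neg_cancel_comm] at h2
  have hF' : ∀ j (hj : j ≤ k), 1 ≤ j → PX U M u (H.f (ix j hj)) := by
    intro j hj h1
    induction j, h1 using Nat.le_induction with
    | base => exact hf1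
    | succ j h1 ih =>
      obtain ⟨r, hr, e0, e1, -⟩ := hfix j (by omega) hj h1
      have h2 := (ih (by omega)).map hr
      rw [e0, e1] at h2
      exact hsub _ _ h2 (ih (by omega))
  have hE' : ∀ i j (hj : j ≤ k), j + i = k → 1 ≤ j → PX U M u (H.e (ix j hj)) := by
    intro i
    induction i with
    | zero => intro j hj e _; obtain rfl : j = k := by omega
              exact hek
    | succ i ih =>
      intro j hj e h1
      obtain ⟨r, hr, e0, -, e2⟩ := hfix j hj (by omega) h1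
      have h3 := ih (j + 1) (by omega) (by omega) (by omega)
      have h2 := h3.map hr
      rw [e0, e2, sub_eq_add_neg] at h2
      have h4 := (hsub _ _ h2 h3).smul (-1)
      rwa [neg_one_smul, neg_neg] at h4
  obtain ⟨-, ρ, hρ⟩ := exists_scalars U hF hq
  refine HypU.eq_top hF hq h32 H hN hact ?_ ?_ ?_ fun v hv => by
    rw [hP v hv]; intro s; rw [smul_zero]; exact RX.zero (H.ee _ _)
  · refine ctr_of_pair hρ (x := H.f i1) (x' := H.e i1) (by rw [H.fe, if_pos rfl]; exact one_ne_zero)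
      hf1 ?_
    simpa using hE' (k - 1) 1 hk (by omega) le_rfl 1
  · rintro ⟨i, hi⟩ hne
    have h1 : 1 ≤ i := Nat.one_le_iff_ne_zero.2 fun e => hne (Fin.ext e)
    exact hE' (k - i) i (by omega) (by omega) h1
  · rintro ⟨i, hi⟩ hne
    have h1 : 1 ≤ i := Nat.one_le_iff_ne_zero.2 fun e => hne (Fin.ext e)
    exact hF' i (by omega) h1

/-! ### Odd dimension -/

theorem exists_two_gen_odd (hF : Fintype.card F = q ^ 2) (hq : 2 ≤ q) (h32 : ¬ (n = 3 ∧ q = 2))
    (H : HypU U n (k + 1)) (hkq : q = 2 → 1 ≤ k) {w : Fin n → F} (hw : H.Perp w)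
    (hww : pr U w w = 1) (hP : ∀ v, H.Perp v → ∃ c : F, v = c • w) :
    ∃ a b : Cfsg.SU n F q, Subgroup.closure ({a, b} : Set (Cfsg.SU n F q)) = ⊤ := by
  classical
  obtain ⟨g, hg⟩ := IsCyclic.exists_generator (α := Fˣ)
  obtain ⟨⟨d, hd0, hd⟩, ρ, hρ⟩ := exists_scalars U hF hq
  obtain ⟨N, hact⟩ := exists_cycU H hd hd0
  have hgne : ∀ j, 0 < j → j < q ^ 2 - 1 → (g : F) ^ j ≠ 1 := fun j => gen_pow_ne_one hF hg
  have hq2 : q * 2 ≤ q ^ 2 := by rw [pow_two]; exact Nat.mul_le_mul_left q hq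
  have hσ0 : ∀ c : F, c ≠ 0 → U.σ c ≠ 0 := fun c hc => (map_ne_zero U.σ).2 hc
  have hg0 : (g : F) ≠ 0 := Units.ne_zero g
  -- the torus element
  obtain ⟨h, μ, lk, hdiag, hu, hw', hlk, hlk0, hχ, hNχ, hL1, hL2⟩ :
      ∃ (h : Cfsg.SU n F q) (μ lk : F), IsDiag H h ∧
        ap h (H.e (ix 0 (Nat.zero_le k))) = (g : F) • H.e (ix 0 (Nat.zero_le k)) ∧
        ap h w = μ • w ∧
        ap h (H.f (ix k le_rfl)) = lk • H.f (ix k le_rfl) ∧ lk ≠ 0 ∧
        U.σ (U.σ (g : F) * μ) ≠ U.σ (g : F) * μ ∧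
        (U.σ (g : F) * μ) * U.σ (U.σ (g : F) * μ) = (g : F) * U.σ (g : F) ∧
        U.σ (g : F) * μ ≠ 1 ∧ U.σ lk * μ ≠ 1 := by
    obtain ⟨h0, he0, hf0, hw0, -⟩ := exists_diag H (ix 0 (Nat.zero_le k)) hw hww g
    have hdiag0 : IsDiag H h0 := ⟨fun i => ⟨_, he0 i⟩, fun i => ⟨_, hf0 i⟩, fun v hv => by
      obtain ⟨c, rfl⟩ := hP v hv
      exact ⟨U.σ (g : F) * (↑g⁻¹ : F), by rw [ap_smul, hw0, smul_comm]⟩⟩
    have hgi : (g : F) * (↑g⁻¹ : F) = 1 := Units.mul_inv g
    have hsgi : U.σ (g : F) * U.σ (↑g⁻¹ : F) = 1 := by rw [← map_mul, hgi, map_one]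
    rcases Nat.lt_or_ge 2 q with h3 | h3
    · refine ⟨h0, _, _, hdiag0, by rw [he0, if_pos rfl], hw0, hf0 _, ?_, ?_, ?_, ?_, ?_⟩
      · split_ifs
        · exact hσ0 _ (Units.ne_zero _)
        · exact one_ne_zero
      · intro e
        rw [map_mul, map_mul, U.inv] at e
        have e1 : (g : F) * (g : F) * (g : F) =
            U.σ (g : F) * U.σ (g : F) * U.σ (g : F) := by
          have h1 := congrArg (fun s => s * U.σ (g : F) * (g : F)) e
          linear_combination h1 + (U.σ (g:F) * U.σ (g:F) * U.σ (g:F)) * hgi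
            - ((g : F) * (g : F) * (g : F)) * hsgi
        rw [U.pow] at e1
        have e2 : (g : F) ^ 3 * (g : F) ^ ((q - 1) * 3) = (g : F) ^ 3 * 1 := by
          rw [← pow_add, mul_one, show 3 + (q - 1) * 3 = q + q + q by omega, pow_add, pow_add]
          linear_combination -e1
        refine hgne ((q - 1) * 3) (by omega) ?_ (mul_left_cancel₀ (pow_ne_zero 3 hg0) e2)
        have : q * 3 ≤ q ^ 2 := by rw [pow_two]; exact Nat.mul_le_mul_left q h3
        omega
      · simp only [map_mul, U.inv]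
        linear_combination ((g : F) * U.σ (g : F) * U.σ (g : F) * U.σ (↑g⁻¹ : F)) * hgi +
          ((g : F) * U.σ (g : F)) * hsgi
      · intro e
        have e1 : U.σ (g : F) * U.σ (g : F) = g := by
          linear_combination (g : F) * e - (U.σ (g : F) * U.σ (g : F)) * hgi
        rw [U.pow, ← pow_add] at e1
        have e2 : (g : F) * (g : F) ^ (q + q - 1) = (g : F) * 1 := by
          rw [← pow_succ', mul_one, show q + q - 1 + 1 = q + q by omega, e1]
        refine hgne (q + q - 1) (by omega) ?_ (mul_left_cancel₀ hg0 e2)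
        have : q * 3 ≤ q ^ 2 := by rw [pow_two]; exact Nat.mul_le_mul_left q h3
        omega
      · split_ifs
        · rw [U.inv]
          intro e
          have e1 : U.σ (g : F) = (g : F) * g := by
            linear_combination (g : F) * (g : F) * e -
              (U.σ (g : F) * ((g : F) * (↑g⁻¹ : F) + 1)) * hgi
          rw [U.pow, ← pow_two] at e1
          have e2 : (g : F) ^ 2 * (g : F) ^ (q - 2) = (g : F) ^ 2 * 1 := by
            rw [← pow_add, mul_one, show 2 + (q - 2) = q by omega]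
            exact e1
          exact hgne (q - 2) (by omega) (by omega) (mul_left_cancel₀ (pow_ne_zero 2 hg0) e2)
        · rw [map_one, one_mul]
          intro e
          have e1 : U.σ (g : F) = g := by
            linear_combination (g : F) * e - U.σ (g : F) * hgi
          rw [U.pow] at e1
          have e2 : (g : F) * (g : F) ^ (q - 1) = (g : F) * 1 := by
            rw [← pow_succ', mul_one, show q - 1 + 1 = q by omega, e1]
          exact hgne (q - 1) (by omega) (by omega) (mul_left_cancel₀ hg0 e2)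
    · obtain rfl : q = 2 := by omega
      have hk := hkq rfl
      obtain ⟨h1, he1, hf1, hw1, -⟩ := exists_diag H (ix 1 hk) hw hww g
      have n01 : ix 0 (Nat.zero_le k) ≠ ix 1 hk := ix_ne (by omega)
      have hdiag1 : IsDiag H (h0 * h1) :=
        ⟨fun i => ⟨_, by rw [ap_mul, he1, ap_smul, he0, smul_smul]⟩,
          fun i => ⟨_, by rw [ap_mul, hf1, ap_smul, hf0, smul_smul]⟩, fun v hv => by
            obtain ⟨c, rfl⟩ := hP v hv
            exact ⟨(U.σ (g : F) * (↑g⁻¹ : F)) * (U.σ (g : F) * (↑g⁻¹ : F)), by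
              rw [ap_mul, ap_smul, hw1, ap_smul, ap_smul, hw0]; module⟩⟩
      have hg2 : U.σ (g : F) = (g : F) * g := by rw [U.pow, pow_two]
      have hg3 : (g : F) * g * g = 1 := by
        have h1 : g ^ Fintype.card Fˣ = 1 := pow_card_eq_one
        rw [Fintype.card_units, hF] at h1
        have h2 := congrArg Units.val h1
        rw [Units.val_pow_eq_pow_val, Units.val_one] at h2
        linear_combination h2
      have hgm : (↑g⁻¹ : F) = (g : F) * g := by
        linear_combination (-(↑g⁻¹ : F)) * hg3 + ((g : F) * g) * Units.inv_mul g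
      have hg1 : (g : F) ≠ 1 := by simpa using hgne 1 one_pos (by norm_num)
      refine ⟨h0 * h1, (g : F) * g,
        if k = 1 then U.σ (↑g⁻¹ : F) else 1, hdiag1, ?_, ?_, ?_, ?_, ?_, ?_, ?_, ?_⟩
      · rw [ap_mul, he1, if_neg n01, one_smul, he0, if_pos rfl]
      · rw [ap_mul, hw1, ap_smul, hw0, smul_smul, hg2, hgm]
        congr 1
        linear_combination ((g : F) * g * ((g : F) * g * g + 1)) * hg3
      · rw [ap_mul, hf1, ap_smul, hf0, if_neg (show ix k le_rfl ≠ ix 0 (Nat.zero_le k) from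
          ix_ne (by omega)), one_smul]
        by_cases e : k = 1
        · rw [if_pos (Fin.ext (by simp [ix, e])), if_pos e]
        · rw [if_neg (ix_ne e), if_neg e]
      · split_ifs
        · exact hσ0 _ (Units.ne_zero _)
        · exact one_ne_zero
      · simp only [hg2, map_mul]
        intro e
        exact hg1 (by linear_combination (g : F) ^ 2 * e +
          (-(g : F) ^ 7 - (g : F) ^ 4 - g + (g : F) ^ 3 + 1) * hg3)
      · simp only [hg2, map_mul]
        linear_combination ((g : F) ^ 9 + (g : F) ^ 6 + (g : F) ^ 3) * hg3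
      · rw [hg2]
        intro e
        exact hg1 (by linear_combination e - (g : F) * hg3)
      · split_ifs
        · rw [U.inv, hgm]
          intro e
          exact hg1 (by linear_combination e - (g : F) * hg3)
        · rw [map_one, one_mul]
          intro e
          exact hg1 (by linear_combination (-(g : F)) * e + hg3)
  set i0 := ix 0 (Nat.zero_le k) with hi0
  let h' := N * h * N⁻¹
  obtain ⟨a, b, -, hb', -, lb⟩ := hact.last le_rfl (Nat.zero_le k)
  have hu' : ap h' (H.e i0) = lk • H.e i0 := eig_conj hb' lb hlk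
  have hwN : ap N w = (1 : F) • w := by rw [hact.perp w hw, one_smul]
  have hw'' : ap h' w = μ • w := eig_conj one_ne_zero hwN hw'
  have ok : EOk U (H.e i0) w (-ρ) := ⟨H.ee _ _, (hw i0).1, by
    rw [hww, map_neg]; linear_combination -hρ⟩
  let X := eEl U ok
  have hX : IsE U X (H.e i0) w (-ρ) := ⟨ok, ap_eEl U ok⟩
  refine ⟨h, X * N, ?_⟩
  set M := Subgroup.closure ({h, X * N} : Set (Cfsg.SU n F q))
  have hh : h ∈ M := Subgroup.subset_closure (Set.mem_insert _ _)
  have hb : X * N ∈ M := Subgroup.subset_closure (Set.mem_insert_of_mem _ rfl)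
  obtain ⟨z', hC, -⟩ := comm_isE hX hg0 hlk0 hu hw' hu' hw''
    (hdiag.comm (hact.diag_conj hdiag))
  have hCM : RX U M (H.e i0) (((U.σ (g : F) * μ - 1) * (1 - U.σ lk * μ)) • w) := by
    refine ⟨z', hC.mem ?_⟩
    have hG : X * h' * X⁻¹ ∈ M := by
      have h1 := M.mul_mem (M.mul_mem hb hh) (M.inv_mem hb)
      have e : X * N * h * (X * N)⁻¹ = X * h' * X⁻¹ := by simp only [h']; group
      rwa [e] at h1
    exact M.mul_mem (M.mul_mem (M.mul_mem hh hG) (M.inv_mem hh)) (M.inv_mem hG)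
  have hA : ∀ s, s ∈ rxScal (U := U) (M := M) (H.e i0) w (H.ee _ _) := by
    refine full_of_norm hF hq _ ?_ hCM hg hχ hNχ fun s hs => ?_
    · exact mul_ne_zero (sub_ne_zero.2 hL1) (sub_ne_zero.2 (Ne.symm hL2))
    · show RX U M _ _
      have h1 := RX.map (show RX U M (H.e i0) (s • w) from hs) hh
      rw [hu, ap_smul, hw'] at h1
      have h2 := h1.smul_left hg0
      rw [smul_smul, smul_smul] at h2
      rwa [show U.σ (g : F) * s * μ = U.σ (g : F) * μ * s by ring] at h2
  have hPw : PX U M (H.e i0) w := hA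
  have hC0 : Ctr U M (H.e i0) := ctr_of_pair hρ (x := w) (x' := w)
    (by rw [hww]; exact one_ne_zero) hPw (by simpa using hPw 1)
  have hXM : X ∈ M := hX.mem_of (MemE.of_ctr hC0 (by simpa using hPw 1) ok)
  have hN : N ∈ M := by
    have h1 := M.mul_mem (M.inv_mem hXM) hb
    rwa [inv_mul_cancel_left] at h1
  -- the direction `w` at every point
  have hstep : ∀ p p' : Fin n → F, PX U M p w → ∀ c : F, c ≠ 0 → ap N p = c • p' →
      PX U M p' w := by
    intro p p' hp c hc e
    have h1 := hp.map hN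
    rw [e, hact.perp w hw] at h1
    exact h1.smul_left hc
  have hE' : ∀ j (hj : j ≤ k), PX U M (H.e (ix j hj)) w := by
    intro j
    induction j with
    | zero => intro _; exact hPw
    | succ j ih =>
      intro hj
      exact hstep _ _ (ih (by omega)) 1 one_ne_zero
        ((hact.step j (by omega) hj).1.trans (one_smul F _).symm)
  have hF' : ∀ j (hj : j ≤ k), PX U M (H.f (ix j hj)) w := by
    intro j
    induction j with
    | zero =>
      intro _
      obtain ⟨a, b, ha, -, la, -⟩ := hact.last le_rfl (Nat.zero_le k)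
      exact hstep _ _ (hE' k le_rfl) a ha la
    | succ j ih =>
      intro hj
      exact hstep _ _ (ih (by omega)) 1 one_ne_zero
        ((hact.step j (by omega) hj).2.trans (one_smul F _).symm)
  have hcomm : ∀ p, PX U M p w → pr U p (H.e i0) = 0 → pr U w p = 0 →
      PX U M (H.e i0) p := by
    intro p hp h1 h2 s
    obtain ⟨z₁, m1⟩ := hp (-(U.σ s))
    obtain ⟨z₂, m2⟩ := hPw 1
    rw [one_smul] at m2
    refine ⟨0, (m1.comm m2 h1 (by rw [pr_smul_left, (hw i0).1, mul_zero]) h2).congr rfl ?_ rfl⟩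
    rw [pr_smul_right, map_neg, U.inv, hww, mul_one, neg_neg]
  refine HypU.eq_top hF hq h32 H hN hact hC0 ?_ ?_ fun v hv => ?_
  · rintro ⟨i, hi⟩ -
    exact hcomm _ (hE' i (by omega)) (H.ee _ _) (hw _).1
  · rintro ⟨i, hi⟩ hne
    exact hcomm _ (hF' i (by omega)) (by rw [H.fe, if_neg hne]) (hw _).2
  · obtain ⟨c, rfl⟩ := hP v hv
    exact hPw.smul c

end Cfsg.Agent.ClassTwoGen.SUGen
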