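import Cfsg.Agent.Lib.ClassTwoGen.SUSpan

/-!
# Monomial and torus elements of `SU_n` on a system of hyperbolic pairs
-/

set_option autoImplicit false
set_option linter.unusedSectionVars false

namespace Cfsg.Agent.ClassTwoGen.SUGen

open Matrix Cfsg.Agent

universe u

variable {F : Type u} [Field F] [Fintype F] {n q : ℕ}

/-- Mutually orthogonal hyperbolic pairs of isotropic vectors. -/
structure HypU (U : UD F q) (n m : ℕ) where
  /-- First members. -/
  e : Fin m → Fin n → F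
  /-- Second members. -/
  f : Fin m → Fin n → F
  ee : ∀ i j, pr U (e i) (e j) = 0
  ff : ∀ i j, pr U (f i) (f j) = 0
  ef : ∀ i j, pr U (e i) (f j) = if i = j then 1 else 0

variable {U : UD F q} {m : ℕ} (H : HypU U n m)

theorem HypU.fe (i j : Fin m) : pr U (H.f i) (H.e j) = if i = j then 1 else 0 := by
  rw [pr_swap, H.ef]
  by_cases h : i = j
  · subst h; simp
  · rw [if_neg h, if_neg (Ne.symm h), map_zero]

/-- Orthogonal to all pairs. -/
def HypU.Perp (v : Fin n → F) : Prop := ∀ i, pr U v (H.e i) = 0 ∧ pr U v (H.f i) = 0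

theorem HypU.decomp (v : Fin n → F) :
    H.Perp (v - ∑ i, (pr U v (H.f i) • H.e i + pr U v (H.e i) • H.f i)) := by
  intro k
  have hsum : ∀ u, pr U (∑ i, (pr U v (H.f i) • H.e i + pr U v (H.e i) • H.f i)) u =
      ∑ i, (pr U v (H.f i) * pr U (H.e i) u + pr U v (H.e i) * pr U (H.f i) u) := fun u => by
    simp [pr, map_sum]
  constructor <;> rw [pr_sub_left, hsum] <;>
    simp [H.ee, H.ef, H.ff, H.fe, Finset.sum_add_distrib]

/-- `e_i ↦ e_i + c e_j`, `f_j ↦ f_j - σ c f_i`. -/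
noncomputable def shear {i j : Fin m} (hij : i ≠ j) (c : F) : Cfsg.SU n F q :=
  eEl U (u := H.f i) (x := c • H.e j) (z := 0)
    ⟨H.ff i i, by rw [pr_smul_left, H.ef, if_neg hij.symm, mul_zero], by
      rw [pr_smul_left, pr_smul_right, H.ee, map_zero]; ring⟩

theorem shear_apply {i j : Fin m} (hij : i ≠ j) (c : F) (y : Fin n → F) :
    ap (shear H hij c) y =
      y + pr U y (H.f i) • c • H.e j - (U.σ c * pr U y (H.e j)) • H.f i := by
  rw [shear, ap_eEl, eFun, pr_smul_right]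
  simp

theorem shear_e {i j : Fin m} (hij : i ≠ j) (c : F) (k : Fin m) :
    ap (shear H hij c) (H.e k) = H.e k + (if k = i then c else 0) • H.e j := by
  rw [shear_apply, H.ef, H.ee]
  by_cases h : k = i <;> simp [h]

theorem shear_f {i j : Fin m} (hij : i ≠ j) (c : F) (k : Fin m) :
    ap (shear H hij c) (H.f k) = H.f k - (if k = j then U.σ c else 0) • H.f i := by
  rw [shear_apply, H.fe, H.ff]
  by_cases h : k = j <;> simp [h]

theorem shear_perp {i j : Fin m} (hij : i ≠ j) (c : F) {v : Fin n → F} (hv : H.Perp v) :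
    ap (shear H hij c) v = v := by
  rw [shear_apply, (hv i).2, (hv j).1]
  simp

/-- The Weyl element `e_i ↦ l e_j`, `e_j ↦ -l⁻¹ e_i`. -/
noncomputable def weyl {i j : Fin m} (hij : i ≠ j) (l : Fˣ) : Cfsg.SU n F q :=
  shear H hij l * shear H hij.symm (-(↑l⁻¹ : F)) * shear H hij l

theorem ap_add (g : Cfsg.SU n F q) (a b : Fin n → F) : ap g (a + b) = ap g a + ap g b :=
  Matrix.mulVec_add _ _ _

theorem ap_sub (g : Cfsg.SU n F q) (a b : Fin n → F) : ap g (a - b) = ap g a - ap g b :=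
  Matrix.mulVec_sub _ _ _

theorem ap_smul (g : Cfsg.SU n F q) (c : F) (a : Fin n → F) : ap g (c • a) = c • ap g a :=
  Matrix.mulVec_smul _ _ _

theorem ap_neg (g : Cfsg.SU n F q) (a : Fin n → F) : ap g (-a) = -ap g a :=
  Matrix.mulVec_neg _ _

theorem weyl_e {i j : Fin m} (hij : i ≠ j) (l : Fˣ) (k : Fin m) :
    ap (weyl H hij l) (H.e k) =
      if k = i then (l : F) • H.e j else if k = j then -(↑l⁻¹ : F) • H.e i else H.e k := by
  simp only [weyl, ap_mul, shear_e, ap_add, ap_smul]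
  by_cases h1 : k = i
  · subst h1
    simp only [if_true, if_neg hij, if_neg hij.symm, zero_smul, add_zero, smul_add, smul_smul]
    match_scalars <;> simp
  by_cases h2 : k = j
  · subst h2
    simp only [if_true, if_neg h1, if_neg hij, zero_smul, add_zero, smul_add, smul_smul]
    match_scalars <;> simp
  simp [h1, h2]

theorem weyl_f {i j : Fin m} (hij : i ≠ j) (l : Fˣ) (k : Fin m) :
    ap (weyl H hij l) (H.f k) =
      if k = i then U.σ (↑l⁻¹ : F) • H.f j else if k = j then -U.σ (l : F) • H.f i else H.f k := by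
  simp only [weyl, ap_mul, shear_f, ap_sub, ap_smul, map_neg]
  have hl : U.σ (l : F) * U.σ (↑l⁻¹ : F) = 1 := by rw [← map_mul, Units.mul_inv, map_one]
  by_cases h1 : k = i
  · subst h1
    simp only [if_true, if_neg hij, if_neg hij.symm, zero_smul, sub_zero, smul_sub, smul_smul]
    match_scalars <;> simp
  by_cases h2 : k = j
  · subst h2
    simp only [if_true, if_neg h1, if_neg hij, zero_smul, sub_zero, smul_sub, smul_smul]
    match_scalars <;> simp
  simp [h1, h2]

theorem weyl_perp {i j : Fin m} (hij : i ≠ j) (l : Fˣ) {v : Fin n → F} (hv : H.Perp v) :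
    ap (weyl H hij l) v = v := by
  simp only [weyl, ap_mul, shear_perp H _ _ hv]

/-- The torus element `e_i ↦ l e_i`, `e_j ↦ l⁻¹ e_j`. -/
noncomputable def torus {i j : Fin m} (hij : i ≠ j) (l : Fˣ) : Cfsg.SU n F q :=
  weyl H hij (-l⁻¹) * weyl H hij 1

theorem torus_e {i j : Fin m} (hij : i ≠ j) (l : Fˣ) (k : Fin m) :
    ap (torus H hij l) (H.e k) =
      (if k = i then (l : F) else if k = j then (↑l⁻¹ : F) else 1) • H.e k := by
  rw [torus, ap_mul, weyl_e]
  by_cases h1 : k = i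
  · subst h1
    simp [weyl_e, hij.symm, inv_neg, ap_smul]
  by_cases h2 : k = j
  · subst h2
    simp [h1, weyl_e, hij, inv_neg, ap_smul, ap_neg]
  simp [h1, h2, weyl_e]

theorem torus_f {i j : Fin m} (hij : i ≠ j) (l : Fˣ) (k : Fin m) :
    ap (torus H hij l) (H.f k) =
      (if k = i then U.σ (↑l⁻¹ : F) else if k = j then U.σ (l : F) else 1) • H.f k := by
  rw [torus, ap_mul, weyl_f]
  by_cases h1 : k = i
  · subst h1
    simp [weyl_f, hij.symm, inv_neg, ap_smul]
  by_cases h2 : k = j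
  · subst h2
    simp [h1, weyl_f, hij, inv_neg, ap_smul, ap_neg]
  simp [h1, h2, weyl_f]

/-- The exchange `e_i ↦ d f_i`, `f_i ↦ -d⁻¹ e_i`, for a skew scalar `d`. -/
noncomputable def flip (i : Fin m) {d : F} (hd : U.σ d = -d) : Cfsg.SU n F q :=
  eEl U (u := H.f i) (x := 0) (z := d)
      ⟨H.ff i i, pr_zero_left U _, by rw [pr_zero_left, hd]; ring⟩ *
    eEl U (u := H.e i) (x := 0) (z := -d⁻¹)
      ⟨H.ee i i, pr_zero_left U _, by rw [pr_zero_left, map_neg, map_inv₀, hd, inv_neg]; ring⟩ *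
    eEl U (u := H.f i) (x := 0) (z := d)
      ⟨H.ff i i, pr_zero_left U _, by rw [pr_zero_left, hd]; ring⟩

theorem flip_spec (i : Fin m) {d : F} (hd : U.σ d = -d) (hd0 : d ≠ 0) :
    (∀ k, ap (flip H i hd) (H.e k) = if k = i then d • H.f i else H.e k) ∧
    (∀ k, ap (flip H i hd) (H.f k) = if k = i then -d⁻¹ • H.e i else H.f k) ∧
    (∀ v, H.Perp v → ap (flip H i hd) v = v) := by
  refine ⟨fun k => ?_, fun k => ?_, fun v hv => ?_⟩
  · simp only [flip, ap_mul, ap_eEl, eFun, pr_zero_right, zero_smul, smul_zero, sub_zero, add_zero,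
      pr_add_left, pr_smul_left, H.ee, H.ef, H.fe, H.ff]
    by_cases h : k = i
    · subst h; simp [hd0]
    · simp [h]
  · simp only [flip, ap_mul, ap_eEl, eFun, pr_zero_right, zero_smul, smul_zero, sub_zero, add_zero,
      pr_add_left, pr_smul_left, H.ee, H.ef, H.fe, H.ff]
    by_cases h : k = i
    · subst h; simp [hd0]
    · simp [h]
  · simp only [flip, ap_mul, ap_eEl, eFun, pr_zero_right, zero_smul, smul_zero, sub_zero, add_zero,
      pr_add_left, pr_smul_left, (hv i).1, (hv i).2, mul_zero]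

/-- The pair with index `j`. -/
def ix {k : ℕ} (j : ℕ) (h : j ≤ k) : Fin (k + 1) := ⟨j, Nat.lt_succ_of_le h⟩

theorem ix_ne {k i j : ℕ} {hi : i ≤ k} {hj : j ≤ k} (h : i ≠ j) : ix i hi ≠ ix j hj :=
  fun e => h (congrArg Fin.val e)

variable {k : ℕ} (H' : HypU U n (k + 1))

/-- `e_0 ↦ e_1 ↦ … ↦ e_j ↦ ± e_0`, likewise for the `f`'s. -/
noncomputable def cyc : (j : ℕ) → j ≤ k → Cfsg.SU n F q
  | 0, _ => 1
  | j + 1, h => cyc j (Nat.le_of_succ_le h) *
      weyl H' (ix_ne (hi := Nat.le_of_succ_le h) (hj := h) (Nat.ne_of_lt (Nat.lt_succ_self j))) 1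

theorem cyc_spec : ∀ (j : ℕ) (hj : j ≤ k),
    (∀ i h h', i < j →
      ap (cyc H' j hj) (H'.e (ix i h)) = H'.e (ix (i + 1) h') ∧
      ap (cyc H' j hj) (H'.f (ix i h)) = H'.f (ix (i + 1) h')) ∧
    (∀ h h', ap (cyc H' j hj) (H'.e (ix j h)) = (-1 : F) ^ j • H'.e (ix 0 h') ∧
      ap (cyc H' j hj) (H'.f (ix j h)) = (-1 : F) ^ j • H'.f (ix 0 h')) ∧
    (∀ i h, j < i → ap (cyc H' j hj) (H'.e (ix i h)) = H'.e (ix i h) ∧
      ap (cyc H' j hj) (H'.f (ix i h)) = H'.f (ix i h)) ∧
    (∀ v, H'.Perp v → ap (cyc H' j hj) v = v) := by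
  intro j
  induction j with
  | zero =>
    intro hj
    refine ⟨fun i h h' h2 => absurd h2 (by omega), fun h h' => ?_, fun i h _ => ⟨ap_one _, ap_one _⟩,
      fun v _ => ap_one v⟩
    simp only [cyc, pow_zero, one_smul]
    exact ⟨ap_one _, ap_one _⟩
  | succ j ih =>
    intro hj
    obtain ⟨hA, hB, hC, hD⟩ := ih (Nat.le_of_succ_le hj)
    have e1 : ∀ i (h : i ≤ k), i ≠ j → ix i h ≠ ix j (Nat.le_of_succ_le hj) :=
      fun i h hne => ix_ne hne
    have e2 : ∀ i (h : i ≤ k), i ≠ j + 1 → ix i h ≠ ix (j + 1) hj :=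
      fun i h hne => ix_ne hne
    refine ⟨fun i h h' h2 => ?_, fun h h' => ?_, fun i h hi => ?_, fun v hv => ?_⟩
    · rcases Nat.lt_or_ge i j with hlt | hge
      · rw [cyc, ap_mul, ap_mul, weyl_e, weyl_f, if_neg (e1 i h (by omega)),
          if_neg (e2 i h (by omega)), if_neg (e1 i h (by omega)), if_neg (e2 i h (by omega))]
        exact hA i h h' hlt
      · obtain rfl : i = j := by omega
        rw [cyc, ap_mul, ap_mul, weyl_e, weyl_f, if_pos rfl, if_pos rfl]
        simp only [Units.val_one, inv_one, map_one, one_smul]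
        exact hC (i + 1) h' (by omega)
    · rw [cyc, ap_mul, ap_mul, weyl_e, weyl_f, if_neg (e1 _ h (by omega)), if_pos rfl,
        if_neg (e1 _ h (by omega)), if_pos rfl]
      simp only [Units.val_one, inv_one, map_one, neg_one_smul, ap_neg]
      rw [(hB _ h').1, (hB _ h').2, pow_succ, mul_neg_one, neg_smul, neg_smul]
      exact ⟨rfl, rfl⟩
    · rw [cyc, ap_mul, ap_mul, weyl_e, weyl_f, if_neg (e1 i h (by omega)),
        if_neg (e2 i h (by omega)), if_neg (e1 i h (by omega)), if_neg (e2 i h (by omega))]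
      exact hC i h (by omega)
    · rw [cyc, ap_mul, weyl_perp H' _ _ hv, hD v hv]

/-- How the monomial generator acts. -/
structure CycU (N : Cfsg.SU n F q) : Prop where
  step : ∀ j h h', ap N (H'.e (ix j h)) = H'.e (ix (j + 1) h') ∧
    ap N (H'.f (ix j h)) = H'.f (ix (j + 1) h')
  last : ∀ h h', ∃ a b : F, a ≠ 0 ∧ b ≠ 0 ∧ ap N (H'.e (ix k h)) = a • H'.f (ix 0 h') ∧
    ap N (H'.f (ix k h)) = b • H'.e (ix 0 h')
  perp : ∀ v, H'.Perp v → ap N v = v

theorem exists_cycU {d : F} (hd : U.σ d = -d) (hd0 : d ≠ 0) :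
    ∃ N : Cfsg.SU n F q, CycU H' N := by
  obtain ⟨fE, fF, fP⟩ := flip_spec H' (ix 0 (Nat.zero_le k)) hd hd0
  obtain ⟨hA, hB, -, hC⟩ := cyc_spec H' k le_rfl
  refine ⟨flip H' (ix 0 (Nat.zero_le k)) hd * cyc H' k le_rfl, ⟨fun j h h' => ?_, fun h h' => ?_,
    fun v hv => ?_⟩⟩
  · obtain ⟨a, b⟩ := hA j h h' (by omega)
    rw [ap_mul, ap_mul, a, b, fE, fF, if_neg (ix_ne (by omega)), if_neg (ix_ne (by omega))]
    exact ⟨rfl, rfl⟩
  · obtain ⟨a, b⟩ := hB h h'
    refine ⟨(-1 : F) ^ k * d, (-1 : F) ^ k * (-d⁻¹), mul_ne_zero (by simp) hd0,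
      mul_ne_zero (by simp) (neg_ne_zero.2 (inv_ne_zero hd0)), ?_, ?_⟩
    · rw [ap_mul, a, ap_smul, fE, if_pos rfl, smul_smul]
    · rw [ap_mul, b, ap_smul, fF, if_pos rfl, smul_smul]
  · rw [ap_mul, hC v hv, fP v hv]

/-- A torus element on one pair and an orthogonal unit vector. -/
theorem exists_diag (i : Fin m) {w : Fin n → F} (hw : H.Perp w) (hww : pr U w w = 1) (l : Fˣ) :
    ∃ h : Cfsg.SU n F q,
      (∀ k, ap h (H.e k) = (if k = i then (l : F) else 1) • H.e k) ∧
      (∀ k, ap h (H.f k) = (if k = i then U.σ (↑l⁻¹ : F) else 1) • H.f k) ∧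
      ap h w = (U.σ (l : F) * (↑l⁻¹ : F)) • w ∧
      (∀ v, H.Perp v → pr U v w = 0 → ap h v = v) := by
  set A : F := (l : F) - 1 with hA
  set B : F := U.σ (↑l⁻¹ : F) - 1 with hB
  set C : F := U.σ (l : F) * (↑l⁻¹ : F) - 1 with hC
  have hl : U.σ (↑l⁻¹ : F) * U.σ (l : F) = 1 := by rw [← map_mul, Units.inv_mul, map_one]
  have hwe : pr U w (H.e i) = 0 := (hw i).1
  have hwf : pr U w (H.f i) = 0 := (hw i).2
  have hew : pr U (H.e i) w = 0 := (pr_eq_zero_comm U _ _).1 hwe
  have hfw : pr U (H.f i) w = 0 := (pr_eq_zero_comm U _ _).1 hwf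
  let f := ((LinearMap.transvection (A • prL U (H.f i)) (H.e i)).comp
    (LinearMap.transvection (B • prL U (H.e i)) (H.f i))).comp
    (LinearMap.transvection (C • prL U w) w)
  have hf : ∀ y, f y = y + (A * pr U y (H.f i)) • H.e i + (B * pr U y (H.e i)) • H.f i +
      (C * pr U y w) • w := by
    intro y
    have e1 : prL U (H.f i) (H.f i) = 0 := H.ff i i
    have e2 : prL U (H.f i) w = 0 := hwf
    have e3 : prL U (H.e i) w = 0 := hwe
    simp only [f, LinearMap.comp_apply, LinearMap.transvection.apply, LinearMap.smul_apply, map_add,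
      map_smul, e1, e2, e3, smul_eq_mul, mul_zero, zero_mul, add_zero, pr, prL]
    module
  have hp : ∀ y u, pr U (f y) (f u) = pr U y u := by
    intro y u
    simp only [hf, pr_add_left, pr_add_right, pr_smul_left, pr_smul_right, H.ee, H.ef, H.fe, H.ff,
      hwe, hwf, hew, hfw, hww, if_true, map_mul, ← pr_swap U, mul_zero, add_zero, zero_add, mul_one]
    simp only [hA, hB, hC, map_sub, map_mul, map_one, U.inv]
    linear_combination (pr U y (H.f i) * pr U (H.e i) u) * Units.mul_inv l +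
      (pr U y (H.e i) * pr U (H.f i) u) * hl +
      (pr U y w * pr U w u) * (l : F) * (↑l⁻¹ : F) * hl +
      (pr U y w * pr U w u) * Units.mul_inv l
  have hd : LinearMap.det f = 1 := by
    rw [LinearMap.det_comp, LinearMap.det_comp, LinearMap.transvection.det,
      LinearMap.transvection.det, LinearMap.transvection.det]
    have e1 : prL U (H.f i) (H.e i) = 1 := by
      show pr U (H.e i) (H.f i) = 1
      rw [H.ef, if_pos rfl]
    have e2 : prL U (H.e i) (H.f i) = 1 := by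
      show pr U (H.f i) (H.e i) = 1
      rw [H.fe, if_pos rfl]
    have e3 : prL U w w = 1 := hww
    simp only [LinearMap.smul_apply, e1, e2, e3, smul_eq_mul, mul_one]
    simp only [hA, hB, hC]
    linear_combination ((l : F) * (↑l⁻¹ : F)) * hl + Units.mul_inv l
  refine ⟨ofLin U f hp hd, fun k => ?_, fun k => ?_, ?_, fun v hv hvw => ?_⟩
  · rw [ap_ofLin, hf, H.ef, H.ee, (pr_eq_zero_comm U _ _).1 (hw k).1]
    by_cases h : k = i
    · subst h; simp only [if_true, hA]; module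
    · simp [h]
  · rw [ap_ofLin, hf, H.ff, H.fe, (pr_eq_zero_comm U _ _).1 (hw k).2]
    by_cases h : k = i
    · subst h; simp only [if_true, hB]; module
    · simp [h]
  · rw [ap_ofLin, hf, hwe, hwf, hww, hC]
    module
  · rw [ap_ofLin, hf, (hv i).1, (hv i).2, hvw]
    simp

end Cfsg.Agent.ClassTwoGen.SUGen
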