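import Cfsg.Agent.Lib.ClassTwoGen.SUBasic

/-!
# Subgroups of `SU_n` containing the full radical at one point
-/

set_option autoImplicit false
set_option linter.unusedSectionVars false

namespace Cfsg.Agent.ClassTwoGen.SUGen

open Matrix Cfsg.Agent

universe u

variable {F : Type u} [Field F] [Fintype F] {n q : ℕ} (U : UD F q)

/-- A skew scalar and a scalar of trace one. -/
theorem exists_scalars (hF : Fintype.card F = q ^ 2) (hq : 2 ≤ q) :
    (∃ δ : F, δ ≠ 0 ∧ U.σ δ = -δ) ∧ ∃ ρ : F, ρ + U.σ ρ = 1 := by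
  have h := (FormsLib.hermB_isUnitary hF 1 U.pow U.inv hq).1
  obtain ⟨c, hc⟩ : ∃ c : F, U.σ c ≠ c := by
    by_contra hall
    push Not at hall
    obtain ⟨g, hg⟩ := IsCyclic.exists_generator (α := Fˣ)
    have h1 : g ^ (q - 1) = 1 := by
      ext
      have h2 := hall g
      rw [U.pow] at h2
      rw [Units.val_pow_eq_pow_val, Units.val_one]
      have h3 : (g : F) * (g : F) ^ (q - 1) = g := by
        rw [← pow_succ', Nat.sub_add_cancel (by omega), h2]
      exact (mul_eq_left₀ (Units.ne_zero g)).1 h3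
    have h4 := orderOf_dvd_of_pow_eq_one h1
    classical
    rw [orderOf_eq_card_of_forall_mem_zpowers hg, Nat.card_eq_fintype_card, Fintype.card_units, hF]
      at h4
    have h5 := Nat.le_of_dvd (by omega) h4
    have h6 : q * 2 ≤ q ^ 2 := by rw [pow_two]; exact Nat.mul_le_mul_left q hq
    omega
  refine ⟨⟨c - U.σ c, sub_ne_zero.2 (Ne.symm hc), by rw [map_sub, U.inv, neg_sub]⟩, ?_⟩
  by_cases h2 : (1 : F) + 1 = 0
  · refine ⟨c / (c + U.σ c), ?_⟩
    have hne : c + U.σ c ≠ 0 := fun e => hc (by linear_combination e - c * h2)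
    rw [map_div₀, map_add, U.inv, add_comm (U.σ c) c, ← add_div, div_self hne]
  · refine ⟨1 / (1 + 1), ?_⟩
    rw [map_div₀, map_add, map_one, ← add_div, div_self h2]

variable {M : Subgroup (Cfsg.SU n F q)}

/-- The whole radical at `u` lies in `M`. -/
def InW (M : Subgroup (Cfsg.SU n F q)) (u : Fin n → F) : Prop :=
  pr U u u = 0 ∧ ∀ x z, EOk U u x z → MemE U M u x z

variable {U}

theorem InW.map {u : Fin n → F} (h : InW U M u) {g : Cfsg.SU n F q} (hg : g ∈ M) :
    InW U M (ap g u) := by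
  refine ⟨by rw [pr_ap]; exact h.1, fun x z ok => ?_⟩
  obtain ⟨x, rfl⟩ := ap_surjective g x
  have ok' : EOk U u x z := ⟨h.1, by simpa [pr_ap] using ok.perp, by simpa [pr_ap] using ok.norm⟩
  exact (h.2 x z ok').map hg

theorem InW.smul {u : Fin n → F} (h : InW U M u) {a : F} (ha : a ≠ 0) : InW U M (a • u) := by
  have hσ : U.σ a ≠ 0 := (map_ne_zero U.σ).2 ha
  refine ⟨by rw [pr_smul_left, pr_smul_right, h.1, mul_zero, mul_zero], fun x z ok => ?_⟩
  have ok' : EOk U u (U.σ a • x) (a * U.σ a * z) := by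
    refine ⟨h.1, ?_, ?_⟩
    · have := ok.perp
      rw [pr_smul_right] at this
      rw [pr_smul_left, (mul_eq_zero.1 this).resolve_left hσ, mul_zero]
    · rw [pr_smul_left, pr_smul_right, map_mul, map_mul, U.inv]
      linear_combination (a * U.σ a) * ok.norm
  obtain ⟨-, g, hg, e⟩ := h.2 _ _ ok'
  exact ⟨ok, g, hg, fun y => by rw [e, eFun_smul]⟩

/-- From one good point, every isotropic vector not orthogonal to it. -/
theorem InW.of_nonperp {u x y : Fin n → F} (hu : InW U M u) (hx : InW U M x)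
    (hxu : pr U x u ≠ 0) (hy : pr U y y = 0) (hyu : pr U y u ≠ 0) : InW U M y := by
  set x' := (pr U x u)⁻¹ • x with hx'
  set y' := (pr U y u)⁻¹ • y with hy'
  have h1 : pr U x' u = 1 := by rw [hx', pr_smul_left, inv_mul_cancel₀ hxu]
  have h2 : pr U y' u = 1 := by rw [hy', pr_smul_left, inv_mul_cancel₀ hyu]
  have hxW : InW U M x' := hx.smul (inv_ne_zero hxu)
  have hxx : pr U x' x' = 0 := hxW.1
  have hyy : pr U y' y' = 0 := by rw [hy', pr_smul_left, pr_smul_right, hy, mul_zero, mul_zero]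
  have ok : EOk U u (y' - x') (pr U x' (y' - x')) := by
    refine ⟨hu.1, by rw [pr_sub_left, h1, h2, sub_self], ?_⟩
    rw [pr_sub_right, hxx, sub_zero, pr_sub_left, pr_sub_right, pr_sub_right, hxx, hyy,
      ← pr_swap U y' x']
    ring
  obtain ⟨-, g, hg, e⟩ := hu.2 _ _ ok
  have h' := hxW.map hg
  have e' : ap g x' = y' := by rw [e, eFun, h1]; module
  rw [e', hy'] at h'
  have h'' := h'.smul hyu
  rwa [smul_smul, mul_inv_cancel₀ hyu, one_smul] at h''

/-- A full radical and an element moving its point off the perp space force everything. -/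
theorem eq_top_of_inW (hF : Fintype.card F = q ^ 2) (hq : 2 ≤ q) (h32 : ¬ (n = 3 ∧ q = 2))
    {u : Fin n → F} (hu : InW U M u) {g : Cfsg.SU n F q} (hg : g ∈ M)
    (hgu : pr U (ap g u) u ≠ 0) : M = ⊤ := by
  obtain ⟨⟨δ, hδ, hδσ⟩, ρ, hρ⟩ := exists_scalars U hF hq
  set f := ap g u with hf
  have hfW : InW U M f := hu.map hg
  have hne : ∀ y, pr U y y = 0 → pr U y u ≠ 0 → InW U M y := fun y hy hyu =>
    hu.of_nonperp hfW hgu hy hyu
  have hall : ∀ y, y ≠ 0 → pr U y y = 0 → InW U M y := by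
    intro y hy0 hy
    have via : ∀ z, pr U z z = 0 → pr U z u ≠ 0 → pr U z y ≠ 0 → InW U M y := fun z hz hzu hzy =>
      (hne z hz hzu).of_nonperp hu (fun e => hzu ((pr_eq_zero_comm U z u).2 e)) hy
        (fun e => hzy ((pr_eq_zero_comm U z y).2 e))
    by_cases hfy : pr U f y = 0
    swap
    · exact via f hfW.1 hgu hfy
    obtain ⟨d₀, hd₀⟩ := exists_pr_one U hy0
    set d := d₀ + (-(ρ * pr U d₀ d₀)) • y with hd
    have hdy : pr U d y = 1 := by rw [hd, pr_add_left, pr_smul_left, hy, hd₀, mul_zero, add_zero]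
    have hyd₀ : pr U y d₀ = 1 := by rw [pr_swap, hd₀, map_one]
    have hdd : pr U d d = 0 := by
      simp only [hd, pr_add_left, pr_add_right, pr_smul_left, pr_smul_right, hy, hd₀, hyd₀, map_neg,
        map_mul, ← pr_swap U d₀ d₀]
      linear_combination (-pr U d₀ d₀) * hρ
    by_cases hdu : pr U d u = 0
    swap
    · exact via d hdd hdu (by rw [hdy]; exact one_ne_zero)
    obtain ⟨a, ha, hae⟩ : ∃ a : F, a ≠ 0 ∧ U.σ a * pr U d f + a * pr U f d = 0 := by
      by_cases he : pr U d f = 0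
      · exact ⟨1, one_ne_zero, by rw [he, (pr_eq_zero_comm U d f).1 he]; ring⟩
      · exact ⟨δ * pr U d f, mul_ne_zero hδ he, by rw [map_mul, hδσ, ← pr_swap U f d]; ring⟩
    refine via (d + a • f) ?_ ?_ ?_
    · simp only [pr_add_left, pr_add_right, pr_smul_left, pr_smul_right, hdd, hfW.1]
      linear_combination hae
    · rw [pr_add_left, pr_smul_left, hdu, zero_add]
      exact mul_ne_zero ha hgu
    · rw [pr_add_left, pr_smul_left, hdy, hfy, mul_zero, add_zero]
      exact one_ne_zero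
  rw [eq_top_iff, ← FormsLib.closure_unitaryTransvection hF n h32, Subgroup.closure_le]
  rintro A ⟨v, c, hv, hA⟩
  rcases eq_or_ne v 0 with rfl | hv0
  · have h1 : A = 1 := su_ext fun y => by
      rw [ap_one, ap, hA, Cfsg.unitaryTransvection]
      simp
    rw [h1]; exact M.one_mem
  have hap : ∀ y, ap A y = y + (c * pr U y v) • v := fun y => by
    rw [ap, hA, Cfsg.unitaryTransvection, Matrix.add_mulVec, Matrix.one_mulVec, Matrix.smul_mulVec,
      Matrix.vecMulVec_mulVec, pr_eq, Cfsg.hermForm]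
    ext i
    simp only [Pi.add_apply, Pi.smul_apply, op_smul_eq_mul, smul_eq_mul, dotProduct, mul_comm (y _)]
    ring
  have hvv : pr U v v = 0 := by rw [pr_eq]; exact hv
  obtain ⟨y, hy⟩ := exists_pr_one U hv0
  have hc : c + U.σ c = 0 := by
    have h := pr_ap U A y y
    simp only [hap, pr_add_left, pr_add_right, pr_smul_left, pr_smul_right, hvv, hy, map_mul,
      map_one, mul_one, mul_zero, add_zero, show pr U v y = 1 by rw [pr_swap, hy, map_one]] at h
    linear_combination h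
  obtain ⟨-, g', hg', e⟩ := (hall v hv0 hvv).2 0 c ⟨hvv, pr_zero_left U v, by
    rw [pr_zero_left, add_zero, hc]⟩
  have h2 : A = g' := su_ext fun y => by
    rw [hap, e, eFun, pr_zero_right]
    simp
  rw [h2]
  exact hg'

/-- Two directions with non-zero product give the centre of the radical. -/
theorem ctr_of_pair {u x x' : Fin n → F} {ρ : F} (hρ : ρ + U.σ ρ = 1)
    (hne : pr U x x' ≠ 0) (h : ∀ s : F, RX U M u (s • x)) (h' : RX U M u x') : Ctr U M u := by
  intro z hz
  obtain ⟨z₁, h₁⟩ := h (ρ * z / pr U x x')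
  obtain ⟨z₂, h₂⟩ := h'
  refine (h₁.comm_center h₂).congr rfl rfl ?_
  rw [pr_swap U x' _, pr_smul_left, div_mul_cancel₀ _ hne, map_mul]
  linear_combination z * hρ - U.σ ρ * hz

theorem MemE.of_ctr {u x : Fin n → F} (hC : Ctr U M u) (hR : RX U M u x) {z : F}
    (ok : EOk U u x z) : MemE U M u x z := by
  obtain ⟨z₀, h⟩ := hR
  have hz : z - z₀ + U.σ (z - z₀) = 0 := by
    rw [map_sub]; linear_combination ok.norm - h.1.norm
  exact (h.mul (hC _ hz)).congr rfl (add_zero _) (by rw [pr_zero_left]; ring)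

theorem inW_of_rx {u : Fin n → F} (hu : pr U u u = 0) (hC : Ctr U M u)
    (hR : ∀ x, pr U x u = 0 → RX U M u x) : InW U M u :=
  ⟨hu, fun x _ ok => MemE.of_ctr hC (hR x ok.perp) ok⟩

end Cfsg.Agent.ClassTwoGen.SUGen
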