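import Cfsg.Agent.Lib.ClassTwoGen.SpSpan

/-!
# Two generators of the symplectic group
-/

set_option autoImplicit false

namespace Cfsg.Agent.ClassTwoGen.SpGen

open Matrix Cfsg.Agent.FormsLib Cfsg.Agent.AutPSp

universe u

variable {k : ℕ} {F : Type u} [Field F]

local notation "ι2" => Fin (k + 2) ⊕ Fin (k + 2)
local notation "V" => Fin (k + 2) ⊕ Fin (k + 2) → F
local notation "Sp" => Matrix.symplecticGroup (Fin (k + 2)) F
local notation "Mat" => Matrix (Fin (k + 2) ⊕ Fin (k + 2)) (Fin (k + 2) ⊕ Fin (k + 2)) F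
local notation "B" => spB (k + 2) F

/-- An element of `Sp` from a linear map preserving the form. -/
noncomputable def ofLin {m : ℕ} (f : (Fin m ⊕ Fin m → F) →ₗ[F] (Fin m ⊕ Fin m → F))
    (hf : ∀ u v, spB m F (f u) (f v) = spB m F u v) : Matrix.symplecticGroup (Fin m) F :=
  ⟨LinearMap.toMatrix' f, (mem_symplectic_iff _).2 fun u v => by
    rw [LinearMap.toMatrix'_mulVec, LinearMap.toMatrix'_mulVec, hf]⟩

theorem ofLin_apply {m : ℕ} (f : (Fin m ⊕ Fin m → F) →ₗ[F] (Fin m ⊕ Fin m → F))
    (hf : ∀ u v, spB m F (f u) (f v) = spB m F u v) (v : Fin m ⊕ Fin m → F) :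
    (ofLin f hf : Matrix (Fin m ⊕ Fin m) (Fin m ⊕ Fin m) F) *ᵥ v = f v := by
  show LinearMap.toMatrix' f *ᵥ v = _
  rw [LinearMap.toMatrix'_mulVec]

/-! ### The twisted cycle -/

/-- `e_i ↦ e_{i+1}`, `e_last ↦ f_0`, `f_i ↦ f_{i+1}`, `f_last ↦ -e_0`. -/
def cycLin : (Fin (k + 2) ⊕ Fin (k + 2) → F) →ₗ[F] (Fin (k + 2) ⊕ Fin (k + 2) → F) where
  toFun v := Sum.elim (Fin.cases (-v (Sum.inr (Fin.last _))) fun j => v (Sum.inl j.castSucc))
    (Fin.cases (v (Sum.inl (Fin.last _))) fun j => v (Sum.inr j.castSucc))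
  map_add' u v := by
    funext x
    rcases x with i | i <;> refine Fin.cases ?_ (fun j => ?_) i <;> simp [add_comm]
  map_smul' c v := by
    funext x
    rcases x with i | i <;> refine Fin.cases ?_ (fun j => ?_) i <;> simp

theorem cycLin_isom (u v : V) : B (cycLin u) (cycLin v) = B u v := by
  rw [spB_expand, spB_expand, Fin.sum_univ_succ,
    Fin.sum_univ_castSucc (f := fun i => u (Sum.inr i) * v (Sum.inl i) - u (Sum.inl i) * v (Sum.inr i))]
  simp [cycLin]
  ring

/-- The twisted cycle in `Sp`. -/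
noncomputable def cyc : Sp := ofLin cycLin cycLin_isom

theorem cyc_bv_inl (j : Fin (k + 1)) :
    ((cyc : Sp) : Mat) *ᵥ (bv (Sum.inl j.castSucc) : V) = bv (Sum.inl j.succ) := by
  rw [cyc, ofLin_apply]
  funext x
  rcases x with i | i <;> refine Fin.cases ?_ (fun l => ?_) i <;>
    simp [cycLin, bv, Pi.single_apply, (Fin.castSucc_ne_last j).symm, (Fin.succ_ne_zero j).symm,
      Fin.castSucc_inj]

theorem cyc_bv_inl_last :
    ((cyc : Sp) : Mat) *ᵥ (bv (Sum.inl (Fin.last _)) : V) = bv (Sum.inr 0) := by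
  rw [cyc, ofLin_apply]
  funext x
  rcases x with i | i <;> refine Fin.cases ?_ (fun l => ?_) i <;>
    simp [cycLin, bv, Pi.single_apply, Fin.castSucc_ne_last, Fin.succ_ne_zero]

theorem cyc_bv_inr (j : Fin (k + 1)) :
    ((cyc : Sp) : Mat) *ᵥ (bv (Sum.inr j.castSucc) : V) = bv (Sum.inr j.succ) := by
  rw [cyc, ofLin_apply]
  funext x
  rcases x with i | i <;> refine Fin.cases ?_ (fun l => ?_) i <;>
    simp [cycLin, bv, Pi.single_apply, (Fin.castSucc_ne_last j).symm, (Fin.succ_ne_zero j).symm,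
      Fin.castSucc_inj]

theorem cyc_bv_inr_last :
    ((cyc : Sp) : Mat) *ᵥ (bv (Sum.inr (Fin.last _)) : V) = -bv (Sum.inl 0) := by
  rw [cyc, ofLin_apply]
  funext x
  rcases x with i | i <;> refine Fin.cases ?_ (fun l => ?_) i <;>
    simp [cycLin, bv, Pi.single_apply, Fin.castSucc_ne_last, Fin.succ_ne_zero]

/-- A subgroup with the cycle, one full transvection group and one neighbouring sum is `⊤`. -/
theorem eq_top_of_cyc [Finite F] {M : Subgroup (Matrix.symplecticGroup (Fin (k + 2)) F)}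
    (hc : cyc ∈ M) (h0 : InW M (bv (Sum.inl 0) : Fin (k + 2) ⊕ Fin (k + 2) → F))
    {j0 : Fin (k + 1)}
    (h01 : InW M (bv (Sum.inl j0.castSucc) + bv (Sum.inl j0.succ) : Fin (k + 2) ⊕ Fin (k + 2) → F)) :
    M = ⊤ := by
  have he : ∀ i : Fin (k + 2), InW M (bv (Sum.inl i) : V) := fun i => by
    induction i using Fin.induction with
    | zero => exact h0
    | succ j hj => rw [← cyc_bv_inl]; exact hj.map hc
  have hf0 : InW M (bv (Sum.inr 0) : V) := by
    rw [← cyc_bv_inl_last]; exact (he _).map hc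
  have hf : ∀ i : Fin (k + 2), InW M (bv (Sum.inr i) : V) := fun i => by
    induction i using Fin.induction with
    | zero => exact hf0
    | succ j hj => rw [← cyc_bv_inr]; exact hj.map hc
  let P : Fin (k + 1) → Prop := fun j =>
    InW M (bv (Sum.inl j.castSucc) + bv (Sum.inl j.succ) : V)
  have hstep : ∀ j : Fin k, P j.castSucc ↔ P j.succ := by
    intro j
    have e : ((cyc : Sp) : Mat) *ᵥ
        (bv (Sum.inl j.castSucc.castSucc) + bv (Sum.inl j.castSucc.succ) : V) =
        bv (Sum.inl j.succ.castSucc) + bv (Sum.inl j.succ.succ) := by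
      rw [Matrix.mulVec_add, cyc_bv_inl, Fin.succ_castSucc, cyc_bv_inl]
    constructor
    · intro h; simpa only [P, ← e] using h.map hc
    · intro h; exact InW.map_inv hc (by simpa only [P, ← e] using h)
  have hP0 : P 0 := by
    suffices ∀ j, P j → P 0 from this j0 h01
    intro j
    induction j using Fin.induction with
    | zero => exact id
    | succ i hi => exact fun h => hi ((hstep i).2 h)
  have hP : ∀ j, P j := fun j => by
    induction j using Fin.induction with
    | zero => exact hP0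
    | succ i hi => exact (hstep i).1 hi
  refine Spans.eq_top ⟨he, hf, fun i j hij => ?_⟩
  have h := hP ⟨i.val, by omega⟩
  have e1 : (⟨i.val, by omega⟩ : Fin (k + 1)).castSucc = i := Fin.ext rfl
  have e2 : (⟨i.val, by omega⟩ : Fin (k + 1)).succ = j := Fin.ext (by simp [hij])
  simpa only [P, e1, e2] using h

/-! ### Torus elements -/

/-- `e_i ↦ l e_i`, `f_i ↦ l⁻¹ f_i`. -/
def torLin (i : Fin (k + 2)) (l : Fˣ) :
    (Fin (k + 2) ⊕ Fin (k + 2) → F) →ₗ[F] (Fin (k + 2) ⊕ Fin (k + 2) → F) where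
  toFun v := Sum.elim (fun j => if j = i then (l : F) * v (Sum.inl j) else v (Sum.inl j))
    (fun j => if j = i then (↑l⁻¹ : F) * v (Sum.inr j) else v (Sum.inr j))
  map_add' u v := by
    funext x
    rcases x with j | j <;> by_cases h : j = i <;> simp [h, mul_add]
  map_smul' c v := by
    funext x
    rcases x with j | j <;> by_cases h : j = i <;> simp [h, mul_left_comm]

theorem torLin_isom (i : Fin (k + 2)) (l : Fˣ) (u v : V) :
    B (torLin i l u) (torLin i l v) = B u v := by
  rw [spB_expand, spB_expand]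
  refine Finset.sum_congr rfl fun j _ => ?_
  by_cases h : j = i
  · subst h
    simp only [torLin, LinearMap.coe_mk, AddHom.coe_mk, Sum.elim_inl, Sum.elim_inr, if_true]
    linear_combination (u (Sum.inr j) * v (Sum.inl j) - u (Sum.inl j) * v (Sum.inr j)) *
      Units.inv_mul l
  · simp [torLin, h]

/-- The torus of the `i`-th pair. -/
noncomputable def tor (i : Fin (k + 2)) : Fˣ →* Sp where
  toFun l := ofLin (torLin i l) (torLin_isom i l)
  map_one' := sp_ext fun v => by
    rw [ofLin_apply, Submonoid.coe_one, Matrix.one_mulVec]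
    funext x
    rcases x with j | j <;> simp [torLin]
  map_mul' a b := sp_ext fun v => by
    rw [ofLin_apply, Submonoid.coe_mul, ← Matrix.mulVec_mulVec, ofLin_apply, ofLin_apply]
    funext x
    rcases x with j | j <;> by_cases h : j = i <;> simp [torLin, h, mul_assoc, mul_left_comm]

theorem tor_apply_inl (i j : Fin (k + 2)) (l : Fˣ) :
    ((tor i l : Sp) : Mat) *ᵥ (bv (Sum.inl j) : V) =
      (if j = i then (l : F) else 1) • bv (Sum.inl j) := by
  simp only [tor, MonoidHom.coe_mk, OneHom.coe_mk, ofLin_apply]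
  funext x
  rcases x with a | a <;> by_cases h : a = j
  all_goals try subst h
  all_goals by_cases h' : a = i <;> simp_all [torLin, bv, Pi.single_apply]

theorem tor_apply_inr (i j : Fin (k + 2)) (l : Fˣ) :
    ((tor i l : Sp) : Mat) *ᵥ (bv (Sum.inr j) : V) =
      (if j = i then (↑l⁻¹ : F) else 1) • bv (Sum.inr j) := by
  simp only [tor, MonoidHom.coe_mk, OneHom.coe_mk, ofLin_apply]
  funext x
  rcases x with a | a <;> by_cases h : a = j
  all_goals try subst h
  all_goals by_cases h' : a = i <;> simp_all [torLin, bv, Pi.single_apply]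

theorem tor_comm (i j : Fin (k + 2)) (a b : Fˣ) : (tor i a : Sp) * tor j b = tor j b * tor i a := by
  apply sp_ext
  intro v
  simp only [Submonoid.coe_mul, ← Matrix.mulVec_mulVec, tor, MonoidHom.coe_mk, OneHom.coe_mk,
    ofLin_apply]
  funext x
  rcases x with c | c <;> by_cases h : c = i <;> by_cases h' : c = j <;>
    simp_all [torLin, mul_left_comm]

theorem cyc_tor_zero (l : Fˣ) : (cyc : Sp) * tor 0 l = tor 1 l * cyc := by
  apply sp_ext
  intro v
  simp only [Submonoid.coe_mul, ← Matrix.mulVec_mulVec, tor, MonoidHom.coe_mk, OneHom.coe_mk,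
    cyc, ofLin_apply]
  have hs : ∀ j : Fin (k + 1), (j.succ = (1 : Fin (k + 2))) ↔ j = 0 := fun j => by
    rw [show (1 : Fin (k + 2)) = (0 : Fin (k + 1)).succ from rfl, Fin.succ_inj]
  funext x
  rcases x with c | c <;> refine Fin.cases ?_ (fun j => ?_) c <;>
    simp [torLin, cycLin, hs, Fin.castSucc_eq_zero_iff, Fin.last_eq_zero_iff]

/-! ### A root element -/

/-- `e_1 ↦ e_1 + t e_0`, `f_0 ↦ f_0 - t f_1`. -/
noncomputable def shear (t : F) : Sp :=
  qE (bv (Sum.inl 0)) ((-t) • bv (Sum.inr 1)) (by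
    rw [map_smul, B_bv]; simp [bv, sgn]) 0

theorem shear_mul (s t : F) : (shear s : Sp) * shear t = shear (s + t) := by
  rw [shear, shear, shear, qE_mul]
  refine qE_congr ?_ ?_
  · module
  · simp [B_self]

theorem shear_zero : (shear 0 : Sp) = 1 := by
  rw [shear, ← qE_zero (bv (Sum.inl 0) : V)]
  exact qE_congr (by simp) rfl

theorem shear_inv (t : F) : (shear t : Sp)⁻¹ = shear (-t) :=
  inv_eq_of_mul_eq_one_right (by rw [shear_mul, add_neg_cancel, shear_zero])

theorem shear_apply_one (t : F) :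
    ((shear t : Sp) : Mat) *ᵥ (bv (Sum.inl 1) : V) = bv (Sum.inl 1) + t • bv (Sum.inl 0) := by
  rw [shear, qE_apply, map_smul, B_bv, B_bv]
  simp [bv, sgn]

theorem tor_shear_conj (i : Fin (k + 2)) (hi : i = 0 ∨ i = 1) (l : Fˣ) (t : F) :
    (tor i l : Sp) * shear t * (tor i l)⁻¹ =
      shear ((if i = 0 then (l : F) else (↑l⁻¹ : F)) * t) := by
  rw [shear, shear, qE_conj]
  apply sp_ext
  intro v
  rw [qE_apply, qE_apply, Matrix.mulVec_smul, tor_apply_inl, tor_apply_inr]
  rcases hi with rfl | rfl <;> simp only [map_smul, smul_eq_mul, if_true, one_smul,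
    one_ne_zero, zero_ne_one, if_false] <;> module

/-! ### An element of order three -/

/-- `e_p ↦ e_q ↦ -e_p - e_q`, with the dual action on the `f`'s. -/
def triLin (p q : Fin (k + 2)) :
    (Fin (k + 2) ⊕ Fin (k + 2) → F) →ₗ[F] (Fin (k + 2) ⊕ Fin (k + 2) → F) where
  toFun v := Sum.elim
    (fun j => if j = p then -v (Sum.inl q)
      else if j = q then v (Sum.inl p) - v (Sum.inl q) else v (Sum.inl j))
    (fun j => if j = p then -v (Sum.inr p) - v (Sum.inr q)
      else if j = q then v (Sum.inr p) else v (Sum.inr j))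
  map_add' u v := by
    funext x
    rcases x with j | j <;> simp only [Sum.elim_inl, Sum.elim_inr, Pi.add_apply] <;> split_ifs <;>
      ring
  map_smul' c v := by
    funext x
    rcases x with j | j <;>
      simp only [Sum.elim_inl, Sum.elim_inr, Pi.smul_apply, smul_eq_mul, RingHom.id_apply] <;>
      split_ifs <;> ring

theorem triLin_isom {p q : Fin (k + 2)} (hne : p ≠ q) (u v : V) :
    B (triLin p q u) (triLin p q v) = B u v := by
  rw [spB_expand, spB_expand, ← sub_eq_zero, ← Finset.sum_sub_distrib,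
    Finset.sum_eq_add p q hne]
  · simp [triLin, hne.symm]
    ring
  · intro c _ hc
    simp [triLin, hc.1, hc.2]
  · simp
  · simp

/-- The element of order three. -/
noncomputable def tri {p q : Fin (k + 2)} (hne : p ≠ q) : Sp := ofLin (triLin p q) (triLin_isom hne)

theorem tri_pow_three {p q : Fin (k + 2)} (hne : p ≠ q) : (tri hne : Sp) ^ 3 = 1 := by
  apply sp_ext
  intro v
  simp only [pow_succ, pow_zero, one_mul, Submonoid.coe_mul, Submonoid.coe_one,
    ← Matrix.mulVec_mulVec, Matrix.one_mulVec, tri, ofLin_apply]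
  funext x
  rcases x with j | j <;> by_cases h : j = p <;> by_cases h' : j = q <;>
    simp_all [triLin, hne.symm] <;> ring

theorem tri_fix {p q : Fin (k + 2)} (hne : p ≠ q) {i : Fin (k + 2)} (hp : i ≠ p) (hq : i ≠ q) :
    ((tri hne : Sp) : Mat) *ᵥ (bv (Sum.inl i) : V) = bv (Sum.inl i) := by
  rw [tri, ofLin_apply]
  funext x
  rcases x with j | j <;> by_cases h : j = p <;> by_cases h' : j = q <;>
    simp_all [triLin, bv, Pi.single_apply, hp.symm, hq.symm, hne.symm]

theorem tri_snd {p q : Fin (k + 2)} (hne : p ≠ q) :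
    ((tri hne : Sp) : Mat) *ᵥ (bv (Sum.inl q) : V) = -(bv (Sum.inl p) + bv (Sum.inl q)) := by
  rw [tri, ofLin_apply]
  funext x
  rcases x with j | j <;> by_cases h : j = p <;> by_cases h' : j = q <;>
    simp_all [triLin, bv, Pi.single_apply, hne.symm]

end Cfsg.Agent.ClassTwoGen.SpGen
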