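import Cfsg.Agent.Lib.AutPSp.Geometry
import Cfsg.Agent.S2730

/-!
# Subgroups of `Sp_{2m}` containing enough full transvection groups

If the vectors whose full transvection group lies in a subgroup contain the standard symplectic
basis and the sums of neighbouring `e`'s, the subgroup is everything.
-/

set_option autoImplicit false

namespace Cfsg.Agent.ClassTwoGen.SpGen

open Matrix Cfsg.Agent.FormsLib Cfsg.Agent.AutPSp

universe u

variable {m : ℕ} {F : Type u} [Field F]

local notation "V" => Fin m ⊕ Fin m → F
local notation "Mat" => Matrix (Fin m ⊕ Fin m) (Fin m ⊕ Fin m) F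
local notation "B" => spB m F

variable (M : Subgroup (Matrix.symplecticGroup (Fin m) F))

/-- Every transvection in the direction `v` lies in `M`. -/
def InW (v : Fin m ⊕ Fin m → F) : Prop := ∀ c : F, tr v c ∈ M

variable {M}

theorem inW_zero : InW M (0 : V) := fun c => by
  have h : tr (0 : V) c = 1 := sp_ext fun v => by simp
  rw [h]; exact M.one_mem

theorem InW.smul {v : V} (h : InW M v) (a : F) : InW M (a • v) := fun c => by
  rw [tr_smul]; exact h _

theorem InW.map {v : V} (h : InW M v) {g : Matrix.symplecticGroup (Fin m) F} (hg : g ∈ M) :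
    InW M ((g : Mat) *ᵥ v) := fun c => by
  rw [← tr_conj]; exact M.mul_mem (M.mul_mem hg (h c)) (M.inv_mem hg)

theorem InW.map_inv {v : V} {g : Matrix.symplecticGroup (Fin m) F} (hg : g ∈ M)
    (h : InW M ((g : Mat) *ᵥ v)) : InW M v := by
  have h' := h.map (M.inv_mem hg)
  rwa [sp_coe_inv_mulVec] at h'

/-- Transvecting one member by another. -/
theorem InW.add_smul {u w : V} (hu : InW M u) (hw : InW M w) (h : B w u ≠ 0) (s : F) :
    InW M (w + s • u) := by
  have h' := hw.map (hu (s / B w u))
  rwa [tr_apply, div_mul_cancel₀ _ h] at h'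

theorem InW.add {u w : V} (hu : InW M u) (hw : InW M w) (h : B w u ≠ 0) : InW M (w + u) := by
  simpa using hu.add_smul hw h 1

/-- The vector `a e_i + b f_i`. -/
def pv (i : Fin m) (a b : F) : Fin m ⊕ Fin m → F :=
  a • bv (Sum.inl i) + b • bv (Sum.inr i)

theorem B_pv (v : V) (i : Fin m) (a b : F) :
    B v (pv i a b) = a * v (Sum.inr i) - b * v (Sum.inl i) := by
  simp [pv, B_bv, sgn, sub_eq_add_neg]

theorem pv_apply_inl (i j : Fin m) (a b : F) :
    (pv i a b : V) (Sum.inl j) = if j = i then a else 0 := by
  simp [pv, bv, Pi.single_apply]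

theorem pv_apply_inr (i j : Fin m) (a b : F) :
    (pv i a b : V) (Sum.inr j) = if j = i then b else 0 := by
  simp [pv, bv, Pi.single_apply]

theorem pv_sub (i : Fin m) (a b a' b' : F) :
    (pv i a b : V) - pv i a' b' = pv i (a - a') (b - b') := by
  simp only [pv]; module

theorem inW_pv {i : Fin m} (he : InW M (bv (Sum.inl i)))
    (hf : InW M (bv (Sum.inr i))) (a b : F) : InW M (pv i a b : V) := by
  by_cases ha : a = 0
  · simpa [pv, ha] using hf.smul b
  by_cases hb : b = 0
  · simpa [pv, hb] using he.smul a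
  refine (hf.smul b).add (he.smul a) ?_
  rw [map_smul, map_smul, LinearMap.smul_apply, B_bv]
  simp [sgn, ha, hb, bv]

/-- Moving the component in one pair. -/
theorem inW_step {i : Fin m} (he : InW M (bv (Sum.inl i))) (hf : InW M (bv (Sum.inr i)))
    {y : V} (hy1 : y (Sum.inl i) = 0) (hy2 : y (Sum.inr i) = 0) {a b c d : F}
    (h : InW M (pv i a b + y)) (hne : a * d - b * c ≠ 0) : InW M (pv i c d + y) := by
  have hz : InW M (pv i (c - a) (d - b) : V) := inW_pv he hf _ _
  have hB : B (pv i a b + y) (pv i (c - a) (d - b)) ≠ 0 := by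
    rw [B_pv]
    simp only [Pi.add_apply, pv_apply_inl, pv_apply_inr, if_true, hy1, hy2, add_zero]
    intro e
    apply hne
    linear_combination -e
  have h' := hz.add h hB
  rwa [← pv_sub, show (pv i a b + y) + (pv i c d - pv i a b) = pv i c d + y by abel] at h'

theorem inW_move {i : Fin m} (he : InW M (bv (Sum.inl i))) (hf : InW M (bv (Sum.inr i)))
    {y : V} (hy1 : y (Sum.inl i) = 0) (hy2 : y (Sum.inr i) = 0)
    (h : InW M (pv i 1 0 + y)) {c d : F} (hcd : ¬(c = 0 ∧ d = 0)) : InW M (pv i c d + y) := by
  by_cases hd : d = 0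
  · have hc : c ≠ 0 := fun hc => hcd ⟨hc, hd⟩
    have h1 : InW M (pv i 0 1 + y) := inW_step he hf hy1 hy2 h (by simp)
    exact inW_step he hf hy1 hy2 h1 (by simp [hd, hc])
  · exact inW_step he hf hy1 hy2 h (by simp [hd])

theorem pv_inl_one (i : Fin m) : (pv i 1 0 : V) = bv (Sum.inl i) := by simp [pv]

/-- The hypotheses of the spanning criterion. -/
structure Spans (M : Subgroup (Matrix.symplecticGroup (Fin m) F)) : Prop where
  e : ∀ i : Fin m, InW M (bv (Sum.inl i) : Fin m ⊕ Fin m → F)
  f : ∀ i : Fin m, InW M (bv (Sum.inr i) : Fin m ⊕ Fin m → F)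
  adj : ∀ i j : Fin m, j.val = i.val + 1 →
    InW M (bv (Sum.inl i) + bv (Sum.inl j) : Fin m ⊕ Fin m → F)

theorem Spans.pair_adj (hS : Spans M) {i j : Fin m} (hij : j.val = i.val + 1) (a b c d : F) :
    InW M (pv i a b + pv j c d : V) := by
  have hne : i ≠ j := fun e => by subst e; omega
  by_cases hab : a = 0 ∧ b = 0
  · simpa [pv, hab.1, hab.2] using inW_pv (hS.e j) (hS.f j) c d
  by_cases hcd : c = 0 ∧ d = 0
  · simpa [pv, hcd.1, hcd.2] using inW_pv (hS.e i) (hS.f i) a b
  have h1 : InW M (pv i a b + pv j 1 0 : V) := by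
    refine inW_move (hS.e i) (hS.f i) ?_ ?_ ?_ hab
    · simp [pv_apply_inl, hne]
    · simp [pv_apply_inr]
    · rw [pv_inl_one, pv_inl_one]; exact hS.adj i j hij
  rw [add_comm] at h1 ⊢
  exact inW_move (hS.e j) (hS.f j) (by simp [pv_apply_inl, hne.symm])
    (by simp [pv_apply_inr, hne.symm]) h1 hcd

/-- Support below `k`. -/
def Below (k : ℕ) (v : Fin m ⊕ Fin m → F) : Prop :=
  ∀ i : Fin m, k ≤ i.val → v (Sum.inl i) = 0 ∧ v (Sum.inr i) = 0

theorem Spans.below (hS : Spans M) : ∀ (k : ℕ), k ≤ m → ∀ v : V, Below k v → InW M v := by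
  intro k
  induction k with
  | zero =>
    intro _ v hv
    have : v = 0 := funext fun x => by
      rcases x with i | i
      exacts [(hv i (Nat.zero_le _)).1, (hv i (Nat.zero_le _)).2]
    exact this ▸ inW_zero
  | succ k ih =>
    intro hk v hv
    let kk : Fin m := ⟨k, hk⟩
    set a := v (Sum.inl kk) with ha
    set b := v (Sum.inr kk) with hb
    have hv' : Below k (v - pv kk a b) := by
      intro i hi
      rw [Pi.sub_apply, Pi.sub_apply, pv_apply_inl, pv_apply_inr]
      rcases eq_or_ne i kk with rfl | hne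
      · simp [ha, hb]
      · rw [if_neg hne, if_neg hne, sub_zero, sub_zero]
        exact hv i (by have : i.val ≠ k := fun e => hne (Fin.ext e); omega)
    set v' := v - pv kk a b with hv'def
    have hsum : v = v' + pv kk a b := by simp [hv'def]
    rcases Nat.eq_zero_or_pos k with rfl | hk0
    · have : v' = 0 := funext fun x => by
        rcases x with i | i
        exacts [(hv' i (Nat.zero_le _)).1, (hv' i (Nat.zero_le _)).2]
      rw [hsum, this, zero_add]
      exact inW_pv (hS.e _) (hS.f _) _ _
    let p : Fin m := ⟨k - 1, by omega⟩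
    -- the case where the component before the last one is non-zero
    have key : ∀ x : V, Below k x → ¬(x (Sum.inl p) = 0 ∧ x (Sum.inr p) = 0) →
        InW M (x + pv kk a b) := by
      intro x hx hne
      obtain ⟨c, d, hcd⟩ : ∃ c d : F, B x (pv p c d) ≠ 0 := by
        by_cases h1 : x (Sum.inr p) = 0
        · exact ⟨0, 1, by rw [B_pv]; simpa using fun e => hne ⟨e, h1⟩⟩
        · exact ⟨1, 0, by rw [B_pv]; simpa using h1⟩
      have hu : InW M (x - pv p c d) := ih (by omega) _ fun i hi => by
        have hip : i ≠ p := fun e => by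
          have := congrArg Fin.val e
          simp only [p] at this
          omega
        simp [pv_apply_inl, pv_apply_inr, hip, hx i hi]
      have hw : InW M (pv p c d + pv kk a b : V) :=
        hS.pair_adj (by simp only [p, kk]; omega) _ _ _ _
      have hB : B (x - pv p c d) (pv p c d + pv kk a b) ≠ 0 := by
        have h0 : B (x - pv p c d) (pv kk a b) = 0 := by
          rw [B_pv]
          have hkp : kk ≠ p := fun e => by
            have := congrArg Fin.val e
            simp only [p, kk] at this
            omega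
          simp [pv_apply_inl, pv_apply_inr, hkp, hx kk le_rfl]
        have h1 : B (x - pv p c d) (pv p c d) = B x (pv p c d) := by simp [B_self]
        rwa [map_add, h0, add_zero, h1]
      have h' := hw.add hu hB
      rwa [show (x - pv p c d) + (pv p c d + pv kk a b) = x + pv kk a b by abel] at h'
    rw [hsum]
    by_cases hp : v' (Sum.inl p) = 0 ∧ v' (Sum.inr p) = 0
    swap
    · exact key v' hv' hp
    by_cases hz : v' = 0
    · rw [hz, zero_add]
      exact inW_pv (hS.e _) (hS.f _) _ _
    obtain ⟨w, hw⟩ := exists_not_orth hz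
    -- cut `w` down to the support and make it non-zero at `p`
    let w1 : V := fun x =>
      if x = Sum.inl p then 1 else if (x.elim Fin.val Fin.val) < k then w x else 0
    have hw1 : Below k w1 := fun i hi => by
      have hip : i ≠ p := fun e => by
        have := congrArg Fin.val e
        simp only [p] at this
        omega
      simp [w1, hip, not_lt.2 hi]
    have hB1 : B v' w1 = B v' w := by
      rw [spB_expand, spB_expand]
      refine Finset.sum_congr rfl fun i _ => ?_
      by_cases hi : i.val < k
      · rcases eq_or_ne i p with rfl | hip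
        · simp [hp.1, hp.2]
        · simp [w1, hip, hi]
      · simp [(hv' i (not_lt.1 hi)).1, (hv' i (not_lt.1 hi)).2]
    have hvw : B v' w1 ≠ 0 := by
      rw [hB1, B_swap, hw]; simp
    have hplus : InW M (v' + w1 + pv kk a b) := by
      refine key _ (fun i hi => ?_) ?_
      · simp [hv' i hi, hw1 i hi]
      · rintro ⟨h1, -⟩
        simp [hp.1, w1] at h1
    have hw1W : InW M w1 := ih (by omega) _ hw1
    have hB2 : B (v' + w1 + pv kk a b) w1 ≠ 0 := by
      have h0 : B (pv kk a b) w1 = 0 := by
        rw [B_swap, B_pv, neg_eq_zero]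
        simp [hw1 kk le_rfl]
      simpa [B_self, h0] using hvw
    have h' := hw1W.add_smul hplus hB2 (-1)
    rwa [show v' + w1 + pv kk a b + (-1 : F) • w1 = v' + pv kk a b by module] at h'

theorem Spans.eq_top [Finite F] (hS : Spans M) : M = ⊤ := by
  rw [eq_top_iff, ← S2730.closure_tr (m := m) (F := F), Subgroup.closure_le]
  rintro _ ⟨w, c, rfl⟩
  exact hS.below m le_rfl w (fun i hi => absurd i.isLt (by omega)) c

end Cfsg.Agent.ClassTwoGen.SpGen
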